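import Mathlib
import Cfsg.Agent.Lib.Char.Indicator
import Cfsg.Agent.Lib.Char.Ortho

/-!
The eigenspace of a sign character of the centre in a real representation of a two-group of order the cube
of the order of its centre.
-/

set_option autoImplicit false
set_option linter.unusedSectionVars false
set_option linter.style.haveILetI false

namespace Cfsg.Agent.Lie.ZassenhausSuzuki

open Cfsg Cfsg.Agent.Char Module
open scoped ComplexConjugate Matrix

universe u

section Form

variable {P : Type u} [Group P] [Fintype P] {Z : Subgroup P} (hZc : Z ≤ Subgroup.center P)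
  (hsq : ∀ u : P, u * u ∈ Z) (μ : Z →* ℝ) (hμ : ∀ z, μ z * μ z = 1)

include hZc hsq

/-- Commutators are central. -/
theorem comm_mem (u w : P) : w⁻¹ * u⁻¹ * w * u ∈ Z := by
  have h1 : w⁻¹ * u⁻¹ * w * u = w⁻¹ * w⁻¹ * ((w * u⁻¹) * (w * u⁻¹)) * (u * u) := by group
  rw [h1]
  refine mul_mem (mul_mem ?_ (hsq _)) (hsq u)
  rw [← mul_inv_rev]
  exact inv_mem (hsq w)

theorem comm_mul_left (u v w : P) :
    w⁻¹ * (u * v)⁻¹ * w * (u * v) = (w⁻¹ * u⁻¹ * w * u) * (w⁻¹ * v⁻¹ * w * v) := by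
  have hc := Subgroup.mem_center_iff.1 (hZc (comm_mem hZc hsq u w))
  calc w⁻¹ * (u * v)⁻¹ * w * (u * v) = (w⁻¹ * v⁻¹ * w) * (w⁻¹ * u⁻¹ * w * u) * v := by group
    _ = (w⁻¹ * u⁻¹ * w * u) * (w⁻¹ * v⁻¹ * w) * v := by rw [hc (w⁻¹ * v⁻¹ * w)]
    _ = _ := by group

theorem sq_mul (u w : P) : u * w * (u * w) = (u * u) * (w * w) * (w⁻¹ * u⁻¹ * w * u) := by
  have hc := Subgroup.mem_center_iff.1 (hZc (comm_mem hZc hsq u w))
  calc u * w * (u * w) = u * (u * w * (w⁻¹ * u⁻¹ * w * u)) * w := by group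
    _ = u * u * w * ((w⁻¹ * u⁻¹ * w * u) * w) := by group
    _ = u * u * w * (w * (w⁻¹ * u⁻¹ * w * u)) := by rw [hc w]
    _ = _ := by group

include hμ in
/-- If the Gauss sum is not zero and its square is the order times that of `Z`, then the form is nondegenerate. -/
theorem form_nondeg {q : ℕ} (hq : Nat.card Z = q) (hP : Nat.card P = q ^ 3)
    (hgauss : ∑ u : P, μ ⟨u * u, hsq u⟩ = -((q : ℝ) ^ 2)) {x : P} (hx : x ∉ Z) :
    ∃ u : P, μ ⟨x⁻¹ * u⁻¹ * x * u, comm_mem hZc hsq u x⟩ = -1 := by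
  classical
  set f : P → ℝ := fun u => μ ⟨u * u, hsq u⟩ with hf
  set β : P → P → ℝ := fun u w => μ ⟨w⁻¹ * u⁻¹ * w * u, comm_mem hZc hsq u w⟩ with hβ
  have hmul : ∀ u w : P, f (u * w) = f u * f w * β u w := fun u w => by
    simp only [hf, hβ, ← map_mul]
    exact congrArg μ (Subtype.ext (sq_mul hZc hsq u w))
  have hleft : ∀ u v w : P, β (u * v) w = β u w * β v w := fun u v w => by
    simp only [hβ, ← map_mul]
    exact congrArg μ (Subtype.ext (comm_mul_left hZc hsq u v w))
  have hsym : ∀ u w : P, β w u = β u w := fun u w => by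
    have h1 : β w u * β u w = 1 := by
      simp only [hβ, ← map_mul]
      rw [show (⟨u⁻¹ * w⁻¹ * u * w, comm_mem hZc hsq w u⟩ : Z) * ⟨w⁻¹ * u⁻¹ * w * u, comm_mem hZc hsq u w⟩ = 1 from
        Subtype.ext (by
          show u⁻¹ * w⁻¹ * u * w * (w⁻¹ * u⁻¹ * w * u) = 1
          group), map_one]
    have h2 : β u w * β u w = 1 := hμ _
    exact mul_right_cancel₀ (fun h0 => by rw [h0, mul_zero] at h2; exact zero_ne_one h2) (h1.trans h2.symm)
  have hright : ∀ u v w : P, β u (v * w) = β u v * β u w := fun u v w => by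
    rw [← hsym, hleft, hsym, hsym w u]
  have hself : ∀ u : P, β u u⁻¹ = 1 := fun u => by
    simp only [hβ]
    rw [show (⟨u⁻¹⁻¹ * u⁻¹ * u⁻¹ * u, comm_mem hZc hsq u u⁻¹⟩ : Z) = 1 from Subtype.ext (by
      show u⁻¹⁻¹ * u⁻¹ * u⁻¹ * u = 1
      group), map_one]
  have hpm : ∀ u w : P, β u w = 1 ∨ β u w = -1 := fun u w => mul_self_eq_one_iff.1 (hμ _)
  by_contra hno
  push Not at hno
  have hxR : ∀ u, β u x = 1 := fun u => (hpm u x).resolve_right (hno u)
  set R := Finset.univ.filter fun w : P => ∀ u, β u w = 1 with hR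
  have hRmul : ∀ r ∈ R, ∀ w, w ∈ R ↔ r * w ∈ R := fun r hr w => by
    simp only [hR, Finset.mem_filter, Finset.mem_univ, true_and] at hr ⊢
    simp only [hright, hr, one_mul]
  -- the square of the Gauss sum
  have hsum : ∀ w : P, ∑ u, β u w = if w ∈ R then (Fintype.card P : ℝ) else 0 := fun w => by
    split_ifs with hw
    · rw [Finset.sum_congr rfl fun u _ => (Finset.mem_filter.1 hw).2 u, Finset.sum_const, Finset.card_univ,
        nsmul_one]
    · simp only [hR, Finset.mem_filter, Finset.mem_univ, true_and, not_forall] at hw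
      obtain ⟨u₀, hu₀⟩ := hw
      have h1 : ∑ u, β u w = β u₀ w * ∑ u, β u w := by
        conv_lhs => rw [← Equiv.sum_comp (Equiv.mulLeft u₀) fun u => β u w]
        simp [hleft, Finset.mul_sum]
      rcases mul_left_eq_self₀.1 h1.symm with h2 | h2
      exacts [absurd h2 hu₀, h2]
  have hS2 : ((q : ℝ) ^ 2) ^ 2 = (Fintype.card P : ℝ) * ∑ w ∈ R, f w := by
    have h1 : (∑ u, f u) * (∑ w, f w) = ∑ y, f y * ∑ u, β u y := by
      calc (∑ u, f u) * (∑ w, f w) = ∑ u, ∑ w, f (u * w) * β u w := by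
            rw [Finset.sum_mul_sum]
            refine Finset.sum_congr rfl fun u _ => Finset.sum_congr rfl fun w _ => ?_
            have : β u w * β u w = 1 := hμ _
            rw [hmul, mul_assoc (f u * f w), this, mul_one]
        _ = ∑ u, ∑ y, f y * β u (u⁻¹ * y) := by
            refine Finset.sum_congr rfl fun u _ => ?_
            rw [← Equiv.sum_comp (Equiv.mulLeft u) fun y => f y * β u (u⁻¹ * y)]
            simp
        _ = _ := by
            rw [Finset.sum_comm]
            simp only [hright, hself, one_mul, Finset.mul_sum]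
    rw [show ∑ u, f u = -((q : ℝ) ^ 2) from hgauss] at h1
    simp only [hsum, mul_ite, mul_zero, ← Finset.sum_filter, Finset.filter_univ_mem] at h1
    rw [← Finset.sum_mul] at h1
    linear_combination h1
  have hfR : ∀ r ∈ R, f r = 1 := by
    intro r hr
    by_contra hne
    have h1 : ∑ w ∈ R, f w = f r * ∑ w ∈ R, f w := by
      rw [Finset.mul_sum]
      symm
      refine Finset.sum_equiv (Equiv.mulLeft r) (fun w => by simpa using hRmul r hr w) fun w hw => ?_
      rw [Equiv.coe_mulLeft, hmul, (Finset.mem_filter.1 hw).2 r, mul_one]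
    rcases mul_left_eq_self₀.1 h1.symm with h2 | h2
    · exact hne h2
    · rw [h2, mul_zero] at hS2
      have : (q : ℝ) ≠ 0 := Nat.cast_ne_zero.2 (by rw [← hq]; exact Nat.card_pos.ne')
      exact this (by simpa using hS2)
  have hRcard : R.card = q := by
    rw [Finset.sum_congr rfl hfR, Finset.sum_const, nsmul_one, ← Nat.card_eq_fintype_card, hP] at hS2
    push_cast at hS2
    have : (q : ℝ) ≠ 0 := Nat.cast_ne_zero.2 (by rw [← hq]; exact Nat.card_pos.ne')
    have h3 : (R.card : ℝ) = q := mul_left_cancel₀ (pow_ne_zero 3 this) (by rw [← hS2]; ring)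
    exact_mod_cast h3
  have hsub : (Finset.univ.filter fun w : P => w ∈ Z) ⊆ R := fun w hw => by
    simp only [Finset.mem_filter, Finset.mem_univ, true_and] at hw
    simp only [hR, Finset.mem_filter, Finset.mem_univ, true_and, hβ]
    intro u
    rw [show (⟨w⁻¹ * u⁻¹ * w * u, comm_mem hZc hsq u w⟩ : Z) = 1 from Subtype.ext (by
      show w⁻¹ * u⁻¹ * w * u = 1
      rw [mul_assoc _ w u, ← Subgroup.mem_center_iff.1 (hZc hw) u]
      group), map_one]
  have heq := Finset.eq_of_subset_of_card_le hsub (by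
    rw [hRcard, ← Fintype.card_subtype, ← Nat.card_eq_fintype_card]
    exact le_of_eq hq.symm)
  refine hx ?_
  have : x ∈ R := by simp [hR, hxR]
  rw [← heq] at this
  simpa using this

end Form

/-- The trace of a projection composed with an endomorphism preserving its range. -/
theorem eigen_bound {P : Type u} [Group P] [Fintype P] {m : ℕ} (σ : Representation ℝ P (Fin m → ℝ))
    (Z : Subgroup P) [Fintype Z] (hZc : Z ≤ Subgroup.center P) (hsq : ∀ u : P, u * u ∈ Z) {q : ℕ}
    (hq : Nat.card Z = q) (hP : Nat.card P = q ^ 3) (μ : Z →* ℝ) (hμ : ∀ z, μ z * μ z = 1)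
    (hgauss : ∑ u : P, μ ⟨u * u, hsq u⟩ = -((q : ℝ) ^ 2)) (hμsum : ∑ z : Z, μ z = 0) {τ : ℝ}
    (hτ : ∀ z : Z, z ≠ 1 → LinearMap.trace ℝ (Fin m → ℝ) (σ (z : P)) = τ) :
    ∃ k : ℕ, k ≠ 1 ∧ LinearMap.trace ℝ (Fin m → ℝ) (σ 1) - τ = (q : ℝ) * (q * k) := by
  classical
  have hqpos : 0 < q := hq ▸ Nat.card_pos
  have hq0 : (q : ℝ) ≠ 0 := Nat.cast_ne_zero.2 hqpos.ne'
  set E : (Fin m → ℝ) →ₗ[ℝ] (Fin m → ℝ) := (q : ℝ)⁻¹ • ∑ z : Z, μ z • σ (z : P) with hE
  have hzE : ∀ z : Z, σ (z : P) ∘ₗ E = μ z • E := fun z => by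
    rw [hE, LinearMap.comp_smul, smul_comm, Finset.smul_sum]
    congr 1
    rw [← Equiv.sum_comp (Equiv.mulLeft z) fun w : Z => μ z • μ w • σ (w : P)]
    refine LinearMap.ext fun v => ?_
    simp [LinearMap.sum_apply, map_mul, smul_smul, ← mul_assoc, hμ]
  have hcomm : ∀ u : P, σ u ∘ₗ E = E ∘ₗ σ u := fun u => by
    rw [hE, LinearMap.comp_smul, LinearMap.smul_comp]
    congr 1
    refine LinearMap.ext fun v => ?_
    simp only [LinearMap.comp_apply, LinearMap.sum_apply, LinearMap.smul_apply, map_sum, map_smul]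
    refine Finset.sum_congr rfl fun z _ => ?_
    congr 1
    rw [← Module.End.mul_apply, ← map_mul, ← Module.End.mul_apply, ← map_mul,
      Subgroup.mem_center_iff.1 (hZc z.2) u]
  have hEE : ∀ v, E (E v) = E v := fun v => by
    have h1 : ∀ z : Z, σ (z : P) (E v) = μ z • E v := fun z => LinearMap.congr_fun (hzE z) v
    obtain ⟨w, hw⟩ : ∃ w, w = E v := ⟨_, rfl⟩
    rw [← hw] at h1 ⊢
    rw [hE]
    simp only [LinearMap.smul_apply, LinearMap.sum_apply, h1, smul_smul, hμ, one_smul, Finset.sum_const,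
      Finset.card_univ, ← Nat.card_eq_fintype_card, hq]
    rw [← Nat.cast_smul_eq_nsmul ℝ, smul_smul, inv_mul_cancel₀ hq0, one_smul]
  set W := LinearMap.range E with hW
  have hproj : LinearMap.IsProj W E := ⟨fun v => LinearMap.mem_range_self E v, by
    rintro _ ⟨v, rfl⟩; exact hEE v⟩
  have hinv : ∀ u : P, ∀ v ∈ W, σ u v ∈ W := by
    rintro u _ ⟨v, rfl⟩
    exact ⟨σ u v, (LinearMap.congr_fun (hcomm u) v).symm⟩
  let bW := Module.finBasis ℝ W
  set k₀ := finrank ℝ W with hk₀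
  -- the matrices of the restriction
  let A : P →* Matrix (Fin k₀) (Fin k₀) ℝ :=
    { toFun := fun u => LinearMap.toMatrix bW bW ((σ u).restrict (hinv u))
      map_one' := by
        rw [← LinearMap.toMatrix_one bW]
        congr 1
        ext1 v
        exact Subtype.ext (by simp)
      map_mul' := fun u w => by
        rw [← LinearMap.toMatrix_mul]
        congr 1
        ext1 v
        exact Subtype.ext (by simp) }
  have htr : ∀ u : P, (A u).trace = LinearMap.trace ℝ (Fin m → ℝ) (σ u ∘ₗ E) := fun u => by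
    have hmaps : ∀ v, (σ u ∘ₗ E) v ∈ W := fun v => hinv u _ (LinearMap.mem_range_self E v)
    rw [← LinearMap.trace_restrict_eq_of_forall_mem W (σ u ∘ₗ E) hmaps,
      LinearMap.trace_eq_matrix_trace ℝ bW]
    show Matrix.trace (LinearMap.toMatrix bW bW ((σ u).restrict (hinv u))) = _
    congr 2
    ext1 v
    refine Subtype.ext ?_
    show σ u v = σ u (E v)
    rw [hproj.map_id v v.2]
  have hexp : ∀ u : P, (A u).trace = (q : ℝ)⁻¹ * ∑ z : Z, μ z * LinearMap.trace ℝ (Fin m → ℝ) (σ (u * z)) := by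
    intro u
    rw [htr, hE, LinearMap.comp_smul, map_smul, smul_eq_mul]
    congr 1
    have h0 : σ u ∘ₗ (∑ z : Z, μ z • σ (z : P)) = ∑ z : Z, μ z • σ (u * z) := by
      refine LinearMap.ext fun v => ?_
      simp [LinearMap.sum_apply, map_mul]
    rw [h0, map_sum]
    exact Finset.sum_congr rfl fun z _ => by rw [map_smul, smul_eq_mul]
  set ψ : P → ℝ := fun u => (A u).trace with hψ
  have hψz : ∀ (u : P) (z : Z), ψ (u * z) = μ z * ψ u := fun u z => by
    simp only [hψ, htr]
    rw [map_mul, Module.End.mul_eq_comp, LinearMap.comp_assoc, hzE, LinearMap.comp_smul, map_smul, smul_eq_mul]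
  have hψconj : ∀ u w : P, ψ (w⁻¹ * u * w) = ψ u := fun u w => by
    simp only [hψ, map_mul]
    rw [Matrix.trace_mul_comm, ← Matrix.mul_assoc, ← map_mul A w, mul_inv_cancel, map_one, Matrix.one_mul]
  have hout : ∀ u : P, u ∉ Z → ψ u = 0 := fun u hu => by
    obtain ⟨w, hw⟩ := form_nondeg hZc hsq μ hμ hq hP hgauss hu
    have hmem := comm_mem hZc hsq w u
    have h1 : ψ (w⁻¹ * u * w) = μ ⟨_, hmem⟩ * ψ u := by
      rw [← hψz]
      congr 1
      show w⁻¹ * u * w = u * (u⁻¹ * w⁻¹ * u * w)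
      group
    rw [hψconj, hw] at h1
    linarith
  have hψ1 : ψ 1 = k₀ := by simp [hψ]
  have hX : (q : ℝ) * k₀ = LinearMap.trace ℝ (Fin m → ℝ) (σ 1) - τ := by
    have h1 := hexp 1
    rw [← show ψ 1 = (A 1).trace from rfl, hψ1] at h1
    rw [h1, ← mul_assoc, mul_inv_cancel₀ hq0, one_mul, ← Finset.add_sum_erase _ _ (Finset.mem_univ (1 : Z)),
      map_one, one_mul, one_mul, OneMemClass.coe_one,
      Finset.sum_congr rfl fun z hz => by rw [one_mul, hτ z (Finset.mem_erase.1 hz).1], ← Finset.sum_mul,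
      Finset.sum_erase_eq_sub (Finset.mem_univ _), hμsum]
    simp only [map_one]
    ring
  -- complexify
  let AC : P →* Matrix (Fin k₀) (Fin k₀) ℂ := ((algebraMap ℝ ℂ).mapMatrix.toMonoidHom).comp A
  have hAC : ∀ u, (AC u).trace = (ψ u : ℂ) := fun u => by
    simp [AC, hψ, Matrix.trace]
  let ρ : Representation ℂ P (Fin k₀ → ℂ) :=
    (Matrix.toLinAlgEquiv' (R := ℂ) (n := Fin k₀)).toMonoidHom.comp AC
  set θ : P → ℂ := fun u => (ψ u : ℂ) with hθ
  have hθc : IsCharacter P θ := ⟨k₀, ρ, funext fun u => by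
    show LinearMap.trace ℂ _ (Matrix.toLinAlgEquiv' (AC u)) = _
    rw [LinearMap.trace_eq_matrix_trace ℂ (Pi.basisFun ℂ (Fin k₀)), LinearMap.toMatrix_eq_toMatrix']
    rw [show LinearMap.toMatrix' (Matrix.toLinAlgEquiv' (AC u)) = AC u from LinearMap.toMatrix'_toLin' _, hAC]⟩
  have hψval : ∀ z : Z, ψ (z : P) = μ z * k₀ := fun z => by rw [← hψ1, ← hψz, one_mul]
  have hnorm : classInner θ θ = ((k₀ : ℂ) ^ 2) / (q : ℂ) ^ 2 := by
    have hqc : (q : ℂ) ≠ 0 := Nat.cast_ne_zero.2 hqpos.ne'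
    rw [classInner, hP]
    simp only [hθ, Complex.conj_ofReal]
    rw [← Finset.sum_filter_add_sum_filter_not Finset.univ (fun u : P => u ∈ Z),
      Finset.sum_eq_zero (s := Finset.univ.filter fun u : P => u ∉ Z) fun u hu => by
        simp [hout u (Finset.mem_filter.1 hu).2],
      add_zero, Finset.sum_subtype (p := fun u : P => u ∈ Z) _ (fun u => by simp),
      Finset.sum_congr rfl fun z _ => by rw [hψval, ← Complex.ofReal_mul, mul_mul_mul_comm, hμ, one_mul],
      Finset.sum_const, Finset.card_univ, ← Nat.card_eq_fintype_card, hq, nsmul_eq_mul]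
    push_cast
    field_simp
  obtain ⟨N, hN⟩ := classInner_natCast hθc hθc
  have hkN : k₀ ^ 2 = q ^ 2 * N := by
    have hqc : (q : ℂ) ≠ 0 := Nat.cast_ne_zero.2 hqpos.ne'
    rw [hN, eq_div_iff (pow_ne_zero 2 hqc)] at hnorm
    have : ((k₀ ^ 2 : ℕ) : ℂ) = ((q ^ 2 * N : ℕ) : ℂ) := by push_cast; linear_combination -hnorm
    exact_mod_cast this
  obtain ⟨k, hk⟩ := (Nat.pow_dvd_pow_iff two_ne_zero).1 ⟨N, hkN⟩
  refine ⟨k, fun hk1 => ?_, by rw [← hX, hk]; push_cast; ring⟩
  subst hk1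
  rw [mul_one] at hk
  have hirr : IsIrrCharacter P θ := by
    refine isIrr_of_norm_one hθc ?_
    have : N = 1 := Nat.eq_of_mul_eq_mul_left (pow_pos hqpos 2) (by rw [← hkN, hk, mul_one])
    rw [hN, this, Nat.cast_one]
  rcases indicator_core AC hAC hirr with ⟨hn, -, -⟩ | ⟨-, c, -, hν, -, hall⟩
  · exact hn fun u => Complex.ofReal_im _
  · -- the invariant symmetric form
    set M : Matrix (Fin k₀) (Fin k₀) ℝ := ∑ u, A u * (A u)ᵀ with hM
    have hMinv : ∀ g, AC g * M.map (algebraMap ℝ ℂ) * (AC g)ᵀ = M.map (algebraMap ℝ ℂ) := fun g => by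
      have h1 : A g * M * (A g)ᵀ = M := by
        rw [hM, Matrix.mul_sum, Matrix.sum_mul]
        refine Fintype.sum_equiv (Equiv.mulLeft g) _ _ fun u => ?_
        simp [Matrix.mul_assoc, Matrix.transpose_mul]
      conv_rhs => rw [← h1]
      rw [Matrix.map_mul, Matrix.map_mul, Matrix.transpose_map]
      rfl
    have hMs : Mᵀ = M := by simp [hM, Matrix.transpose_sum, Matrix.transpose_mul]
    have h2 := hall _ hMinv
    rw [← Matrix.transpose_map, hMs] at h2
    obtain ⟨i⟩ : Nonempty (Fin k₀) := ⟨⟨0, by rw [hk]; exact hqpos⟩⟩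
    have hpos : 0 < M i i := by
      rw [hM, Matrix.sum_apply]
      refine Finset.sum_pos' (fun u _ => ?_) ⟨1, Finset.mem_univ _, ?_⟩
      · rw [Matrix.mul_apply]
        exact Finset.sum_nonneg fun j _ => by rw [Matrix.transpose_apply]; exact mul_self_nonneg _
      · simp
    have h3 := congrFun (congrFun h2 i) i
    simp only [Matrix.map_apply, Matrix.smul_apply, smul_eq_mul] at h3
    have hc1 : c = 1 := by
      refine (mul_right_cancel₀ (b := (algebraMap ℝ ℂ) (M i i)) ?_ ?_)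
      · exact (map_ne_zero _).2 hpos.ne'
      · rw [one_mul, ← h3]
    rw [hc1] at hν
    -- the indicator
    have hval : indicator2 θ = -1 := by
      have hqc : (q : ℂ) ≠ 0 := Nat.cast_ne_zero.2 hqpos.ne'
      have h4 : ∑ u : P, ψ (u * u) = (k₀ : ℝ) * -((q : ℝ) ^ 2) := by
        rw [← hgauss, Finset.mul_sum]
        exact Finset.sum_congr rfl fun u _ => by rw [mul_comm (k₀ : ℝ), ← hψval]
      rw [indicator2, hP]
      simp only [hθ]
      rw [← Complex.ofReal_sum, h4, hk]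
      push_cast
      field_simp
    rw [hval] at hν
    norm_num at hν

end Cfsg.Agent.Lie.ZassenhausSuzuki
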