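import Mathlib
import Cfsg.Prelude.Def_LieExceptional
import Cfsg.Prelude.Def_LieRecognition
import Cfsg.Agent.Lib.Lie.Feit.Setup
import Cfsg.Agent.Lib.Lie.ZassenhausClasses
import Cfsg.Agent.Lib.Lie.SuzukiTwo
import Cfsg.Agent.Lib.Char.SuzukiTwoStruct

/-!
Zassenhaus groups with a nonabelian two-group kernel: the kernel is a Suzuki two-group and the square roots.
-/

set_option autoImplicit false
set_option linter.unusedSectionVars false
set_option linter.style.haveILetI false

namespace Cfsg.Agent.Lie.ZassenhausSuzuki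

open MulAction
open Cfsg.Agent.Lie.ZassenhausCount
open Cfsg.Agent.Lie.Feit (Ctx)

universe u v

/-- A kernel which is a nonabelian two-group. -/
structure SCtx (G : Type u) (Ω : Type v) [Group G] [MulAction G Ω] [Fintype Ω] (U : Subgroup G) (a b : Ω)
    (h e : ℕ) : Prop extends Ctx G Ω U a b h e where
  two_group : IsPGroup 2 U
  nab : ∃ u v : U, u * v ≠ v * u
  cyc : IsCyclic ↥(stabilizer G a ⊓ stabilizer G b)

variable {G : Type u} {Ω : Type v} [Group G] [Fintype G] [MulAction G Ω] [Fintype Ω] [FaithfulSMul G Ω]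
  {U : Subgroup G} {a b : Ω} {h e : ℕ}

namespace SCtx

variable (X : SCtx G Ω U a b h e)
include X

theorem h_even : Even h := by
  obtain ⟨k, hk⟩ := X.two_group.exists_card_eq
  rw [X.hcard] at hk
  rw [hk, Nat.even_pow]
  refine ⟨even_two, fun h0 => ?_⟩
  rw [h0] at hk
  have := X.two
  omega

open scoped Classical in
theorem card_invols_eq : (invols : Finset G).card = (h + 1) * e := by
  rw [card_invols X.toOddCtx, if_pos X.h_even, mul_comm]

open scoped Classical in
theorem card_invols_at (c : Ω) : (invols.filter fun x : G => x • c = c).card = e := by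
  rw [ZassenhausClasses.card_invols_fix X.toOddCtx, if_pos X.h_even]

theorem invol_one {x : G} (hx : x ≠ 1) (hxx : x * x = 1) : ∃ c : Ω, ∀ d : Ω, x • d = d ↔ d = c := by
  classical
  have h1 := nfix_invol X.toOddCtx hx hxx
  rw [if_pos X.h_even, nfix, Finset.card_eq_one] at h1
  obtain ⟨c, hc⟩ := h1
  refine ⟨c, fun d => ?_⟩
  have := Finset.ext_iff.1 hc d
  simpa using this

theorem invol_mem {x : G} (hx : x ≠ 1) (hxx : x * x = 1) (hxa : x • a = a) : x ∈ U := by
  obtain ⟨c, hc⟩ := X.invol_one hx hxx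
  exact X.toCtx.mem_of_only hxa fun d hd => ((hc d).1 hd).trans ((hc a).1 hxa).symm

theorem free {x z : G} (hx : x ∈ stabilizer G a ⊓ stabilizer G b) (hz : z ∈ U) (hz1 : z ≠ 1)
    (hxz : x * z * x⁻¹ = z) : x = 1 :=
  X.toCtx.inf_eq_bot hx (X.toCtx.centralizer_le hz hz1 (mul_inv_eq_iff_eq_mul.1 hxz))

theorem free_two {x y z : G} (hx : x ∈ stabilizer G a ⊓ stabilizer G b) (hy : y ∈ stabilizer G a ⊓ stabilizer G b)
    (hz : z ∈ U) (hz1 : z ≠ 1) (hxy : x * z * x⁻¹ = y * z * y⁻¹) : x = y := by
  refine (inv_mul_eq_one.1 (X.free (mul_mem (inv_mem hy) hx) hz hz1 ?_)).symm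
  calc y⁻¹ * x * z * (y⁻¹ * x)⁻¹ = y⁻¹ * (x * z * x⁻¹) * y := by group
    _ = z := by rw [hxy]; group

/-- The two-point stabiliser acts transitively on the involutions of the kernel. -/
theorem trans {z z' : G} (hz : z ∈ U) (hz1 : z ≠ 1) (hzz : z * z = 1) (hz' : z' ∈ U) (hz'1 : z' ≠ 1)
    (hz'z : z' * z' = 1) : ∃ x ∈ stabilizer G a ⊓ stabilizer G b, x * z * x⁻¹ = z' := by
  classical
  set E := stabilizer G a ⊓ stabilizer G b
  haveI := Fintype.ofFinite E
  have hsub : (Finset.univ.image fun x : E => (x : G) * z * (x : G)⁻¹) ⊆ invols.filter fun y : G => y • a = a := by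
    intro y hy
    obtain ⟨x, -, rfl⟩ := Finset.mem_image.1 hy
    simp only [invols, Finset.mem_filter, Finset.mem_univ, true_and]
    refine ⟨⟨by rw [ne_eq, conj_eq_one_iff]; exact hz1, by
      rw [show (x : G) * z * (x : G)⁻¹ * ((x : G) * z * (x : G)⁻¹) = (x : G) * (z * z) * (x : G)⁻¹ by group, hzz]
      group⟩, ?_⟩
    exact X.hle (X.toCtx.conj_mem x.2.1 hz)
  have heq := Finset.eq_of_subset_of_card_le hsub (by
    rw [X.card_invols_at, Finset.card_image_of_injective _ fun x y hxy => Subtype.ext (X.free_two x.2 y.2 hz hz1 hxy),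
      Finset.card_univ, ← Nat.card_eq_fintype_card, X.ecard])
  have : z' ∈ invols.filter fun y : G => y • a = a := by
    simp only [invols, Finset.mem_filter, Finset.mem_univ, true_and]
    exact ⟨⟨hz'1, hz'z⟩, X.hle hz'⟩
  rw [← heq] at this
  obtain ⟨x, -, hx⟩ := Finset.mem_image.1 this
  exact ⟨x, x.2, hx⟩

theorem exists_other {z : G} : ∃ y : U, y ≠ 1 ∧ y * y = 1 ∧ (y : G) ≠ z := by
  classical
  obtain ⟨y, hy, hne⟩ := Finset.exists_mem_ne
    (show 1 < (invols.filter fun y : G => y • a = a).card by rw [X.card_invols_at]; have := X.ethree; omega) z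
  simp only [invols, Finset.mem_filter, Finset.mem_univ, true_and] at hy
  exact ⟨⟨y, X.invol_mem hy.1.1 hy.1.2 hy.2⟩, fun h1 => hy.1.1 (congrArg Subtype.val h1), Subtype.ext hy.1.2, hne⟩

/-- The kernel is a Suzuki two-group. -/
theorem suzuki : Cfsg.IsSuzukiTwoGroup U := by
  classical
  set E := stabilizer G a ⊓ stabilizer G b with hE
  let φ : E →* MulAut U :=
    { toFun := fun g =>
        { toFun := fun k => ⟨(g : G) * k * (g : G)⁻¹, X.toCtx.conj_mem g.2.1 k.2⟩
          invFun := fun k => ⟨(g : G)⁻¹ * k * ((g : G)⁻¹)⁻¹, X.toCtx.conj_mem (g⁻¹).2.1 k.2⟩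
          left_inv := fun u => Subtype.ext (by simp [mul_assoc])
          right_inv := fun u => Subtype.ext (by simp [mul_assoc])
          map_mul' := fun u u' => Subtype.ext (by simp [mul_assoc]) }
      map_one' := MulEquiv.ext fun u => Subtype.ext (by simp)
      map_mul' := fun g g' => MulEquiv.ext fun u => Subtype.ext (by simp [mul_assoc]) }
  haveI := X.cyc
  obtain ⟨y, hy1, hyy, -⟩ := X.exists_other (z := 1)
  obtain ⟨y', hy'1, hy'y, hne⟩ := X.exists_other (z := (y : G))
  refine ⟨inferInstance, X.two_group, X.nab, ⟨y, y', fun h1 => hne (congrArg Subtype.val h1.symm), hy1, hyy, hy'1, hy'y⟩,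
    φ.range, isCyclic_of_surjective φ.rangeRestrict φ.rangeRestrict_surjective, fun z z' hz hzz hz' hz'z => ?_⟩
  obtain ⟨x, hx, hxz⟩ := X.trans z.2 (fun h1 => hz (Subtype.ext h1)) (congrArg Subtype.val hzz) z'.2
    (fun h1 => hz' (Subtype.ext h1)) (congrArg Subtype.val hz'z)
  refine ⟨⟨φ ⟨x, hx⟩, ⟨_, rfl⟩⟩, Subtype.ext hxz, ?_⟩
  rintro ⟨_, g, rfl⟩ hk
  refine Subtype.ext (congrArg φ (Subtype.ext ?_))
  exact X.free_two g.2 hx z.2 (fun h1 => hz (Subtype.ext h1)) ((congrArg Subtype.val hk).trans hxz.symm)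

theorem center_iff (u : U) : u ∈ Subgroup.center U ↔ u * u = 1 := by
  obtain ⟨h1, h2⟩ := SuzukiTwo.center_elementary X.suzuki
  exact ⟨h2 u, h1 u⟩

theorem sq_center (u : U) : u * u ∈ Subgroup.center U := Char.SuzukiStruct.sq_central X.suzuki u

open scoped Classical in
theorem card_center_filter [Fintype U] : (Finset.univ.filter fun u : U => u * u = 1).card = e + 1 := by
  have h1 : ((Finset.univ.filter fun u : U => u * u = 1).erase 1).card =
      (invols.filter fun y : G => y • a = a).card := by
    refine Finset.card_bij (fun u _ => (u : G)) (fun u hu => ?_) (fun _ _ _ _ hh => Subtype.ext hh) fun y hy => ?_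
    · simp only [Finset.mem_erase, Finset.mem_filter, Finset.mem_univ, true_and] at hu
      simp only [invols, Finset.mem_filter, Finset.mem_univ, true_and]
      exact ⟨⟨fun h1 => hu.1 (Subtype.ext h1), congrArg Subtype.val hu.2⟩, X.hle u.2⟩
    · simp only [invols, Finset.mem_filter, Finset.mem_univ, true_and] at hy
      refine ⟨⟨y, X.invol_mem hy.1.1 hy.1.2 hy.2⟩, ?_, rfl⟩
      simp only [Finset.mem_erase, Finset.mem_filter, Finset.mem_univ, true_and]
      exact ⟨fun h1 => hy.1.1 (congrArg Subtype.val h1), Subtype.ext hy.1.2⟩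
  rw [X.card_invols_at, Finset.card_erase_of_mem (by simp)] at h1
  have : 0 < (Finset.univ.filter fun u : U => u * u = 1).card := Finset.card_pos.2 ⟨1, by simp⟩
  omega

theorem card_center : Nat.card (Subgroup.center U) = e + 1 := by
  classical
  haveI := Fintype.ofFinite U
  rw [← X.card_center_filter, Nat.card_eq_fintype_card, Fintype.card_subtype]
  exact congrArg Finset.card (Finset.filter_congr fun u _ => X.center_iff u)

theorem order_cases : h = (e + 1) ^ 2 ∨ h = (e + 1) ^ 3 := by
  have := Char.SuzukiStruct.card_cases X.suzuki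
  rwa [X.hcard, X.card_center] at this

theorem exists_pow : ∃ n, 2 ≤ n ∧ e + 1 = 2 ^ n := by
  obtain ⟨n, hn⟩ := (X.two_group.to_subgroup (Subgroup.center U)).exists_card_eq
  rw [X.card_center] at hn
  refine ⟨n, ?_, hn⟩
  by_contra hlt
  have := X.ethree
  interval_cases n <;> omega

open scoped Classical in
theorem roots_one : (Finset.univ.filter fun v : G => v * v = 1).card = 1 + (h + 1) * e := by
  rw [← X.card_invols_eq, show (Finset.univ.filter fun v : G => v * v = 1) = insert 1 invols by
    ext v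
    simp only [invols, Finset.mem_filter, Finset.mem_univ, true_and, Finset.mem_insert]
    refine ⟨fun hv => (em (v = 1)).imp id fun h' => ⟨h', hv⟩, ?_⟩
    rintro (rfl | hv)
    exacts [one_mul 1, hv.2], Finset.card_insert_of_notMem (by simp [invols]), add_comm]

theorem root_mem {u : U} (hu : u ≠ 1) {v : G} (hv : v * v = u) : v ∈ U :=
  X.toCtx.centralizer_le u.2 (fun e' => hu (Subtype.ext e')) (by rw [← hv, mul_assoc])

open scoped Classical in
theorem roots_out {u : U} (hu : u * u ≠ 1) : (Finset.univ.filter fun v : G => v * v = (u : G)).card = 0 := by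
  rw [Finset.card_eq_zero, Finset.filter_eq_empty_iff]
  intro v _ hv
  have hne : u ≠ 1 := fun e' => hu (by rw [e', one_mul])
  have h2 : u = (⟨v, X.root_mem hne hv⟩ : U) * ⟨v, X.root_mem hne hv⟩ := Subtype.ext hv.symm
  refine hu ((X.center_iff u).1 ?_)
  rw [h2]
  exact X.sq_center _

open scoped Classical in
theorem roots_in {z : U} (hz : z ≠ 1) (hzz : z * z = 1) :
    e * (Finset.univ.filter fun v : G => v * v = (z : G)).card + (e + 1) = h := by
  haveI := Fintype.ofFinite U
  have hin : ∀ z : U, z ≠ 1 → (Finset.univ.filter fun v : G => v * v = (z : G)).card =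
      (Finset.univ.filter fun v : U => v * v = z).card := fun z hz => by
    refine Eq.symm (Finset.card_bij (fun v _ => (v : G)) (fun v hv => ?_) (fun v _ w _ hh => Subtype.val_injective hh) fun v hv => ?_)
    · simp only [Finset.mem_filter, Finset.mem_univ, true_and] at hv ⊢
      exact congrArg Subtype.val hv
    · simp only [Finset.mem_filter, Finset.mem_univ, true_and] at hv
      exact ⟨⟨v, X.root_mem hz hv⟩, by simp [Subtype.ext_iff, hv], rfl⟩
  have hconst : ∀ z' : U, z' ≠ 1 → z' * z' = 1 →
      (Finset.univ.filter fun v : G => v * v = (z' : G)).card = (Finset.univ.filter fun v : G => v * v = (z : G)).card := by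
    intro z' hz' hz'z
    obtain ⟨x, -, hx⟩ := X.trans z.2 (fun h1 => hz (Subtype.ext h1)) (congrArg Subtype.val hzz) z'.2
      (fun h1 => hz' (Subtype.ext h1)) (congrArg Subtype.val hz'z)
    refine Finset.card_equiv (MulAut.conj x⁻¹).toEquiv fun v => ?_
    simp only [Finset.mem_filter, Finset.mem_univ, true_and, MulEquiv.toEquiv_eq_coe, EquivLike.coe_coe,
      MulAut.conj_apply, inv_inv]
    rw [show x⁻¹ * v * x * (x⁻¹ * v * x) = x⁻¹ * (v * v) * x by group, ← hx]
    constructor
    · intro hv; rw [hv]; group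
    · intro hv
      rw [show v * v = x * (x⁻¹ * (v * v) * x) * x⁻¹ by group, hv]
  have hfib := Finset.card_eq_sum_card_fiberwise
    (s := Finset.univ.filter fun v : U => ¬ v * v = 1) (f := fun v : U => v * v)
    (t := (Finset.univ.filter fun u : U => u * u = 1).erase 1) fun v hv => by
      simp only [Finset.coe_filter, Finset.mem_univ, true_and, Set.mem_ofPred_eq] at hv
      simp only [Finset.coe_erase, Finset.coe_filter, Finset.mem_univ, true_and, Set.mem_sdiff, Set.mem_ofPred_eq,
        Set.mem_singleton_iff]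
      exact ⟨(X.center_iff _).1 (X.sq_center v), hv⟩
  rw [Finset.sum_congr rfl (g := fun _ => (Finset.univ.filter fun v : G => v * v = (z : G)).card) fun z' hz' => ?_,
    Finset.sum_const, Finset.card_erase_of_mem (by simp), X.card_center_filter, smul_eq_mul, Nat.add_sub_cancel]
    at hfib
  · have h1 := Finset.card_filter_add_card_filter_not (s := (Finset.univ : Finset U)) fun v => v * v = 1
    rw [X.card_center_filter, hfib, Finset.card_univ, ← Nat.card_eq_fintype_card, X.hcard] at h1
    omega
  · simp only [Finset.mem_erase, Finset.mem_filter, Finset.mem_univ, true_and] at hz'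
    rw [← hconst z' hz'.1 hz'.2, hin z' hz'.1, Finset.filter_filter]
    refine congrArg Finset.card (Finset.filter_congr fun v _ => ⟨fun hv => hv.2, fun hv => ⟨fun h1 => hz'.1 ?_, hv⟩⟩)
    rw [← hv, h1]

end SCtx

end Cfsg.Agent.Lie.ZassenhausSuzuki
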