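import Mathlib
import Cfsg.Agent.Lib.Lie.ZassenhausSuzuki.Basic
import Cfsg.Agent.Lib.Lie.Feit.KernelLinear
import Cfsg.Agent.Lib.Lie.Feit.Known

/-!
Linear characters of the kernel trivial on its centre.
-/

set_option autoImplicit false
set_option linter.unusedSectionVars false
set_option linter.style.haveILetI false

namespace Cfsg.Agent.Lie.ZassenhausSuzuki

open MulAction Cfsg
open Cfsg.Agent.Lie.ZassenhausCount
open Cfsg.Agent.Lie.Feit (Ctx)
open Cfsg.Agent.Char
open scoped ComplexConjugate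

universe u v

variable {G : Type u} {Ω : Type v} [Group G] [Fintype G] [MulAction G Ω] [Fintype Ω] [FaithfulSMul G Ω]
  [IsSimpleGroup G] {U : Subgroup G} {a b : Ω} {h e : ℕ}

namespace SCtx

variable (X : SCtx G Ω U a b h e) [Fintype ↥(stabilizer G a)] [Fintype U]
include X

theorem twist_center (x : ↥(stabilizer G a)) {η : U →* ℂˣ} (hη : ∀ z ∈ Subgroup.center U, η z = 1) :
    ∀ z ∈ Subgroup.center U, X.toCtx.twist x η z = 1 := by
  intro z hz
  rw [Ctx.twist_apply]
  refine hη _ ((X.center_iff _).2 (Subtype.ext ?_))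
  have hzz : (z : G) * z = 1 := congrArg Subtype.val ((X.center_iff z).1 hz)
  show (x : G)⁻¹ * z * x * ((x : G)⁻¹ * z * x) = 1
  rw [show (x : G)⁻¹ * z * x * ((x : G)⁻¹ * z * x) = (x : G)⁻¹ * ((z : G) * z) * x by group, hzz]
  group

theorem hom_finite : Finite (U →* ℂˣ) := by
  refine Nat.finite_of_card_ne_zero ?_
  rw [card_hom_units]
  exact Subgroup.index_ne_zero_of_finite

theorem quot_comm (x y : U ⧸ Subgroup.center U) : x * y = y * x := by
  obtain ⟨u, rfl⟩ := QuotientGroup.mk_surjective x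
  obtain ⟨w, rfl⟩ := QuotientGroup.mk_surjective y
  rw [← QuotientGroup.mk_mul, ← QuotientGroup.mk_mul, QuotientGroup.eq,
    show (u * w)⁻¹ * (w * u) = w⁻¹ * u⁻¹ * w * u by group]
  have h1 : w⁻¹ * u⁻¹ * w * u = (w * w)⁻¹ * ((w * u⁻¹) * (w * u⁻¹)) * (u * u) := by group
  rw [h1]
  exact mul_mem (mul_mem (inv_mem (X.sq_center _)) (X.sq_center _)) (X.sq_center _)

variable (hh : h = (e + 1) ^ 3)
include hh

theorem quot_card : Nat.card (U ⧸ Subgroup.center U) = (e + 1) ^ 2 := by
  have h1 := (Subgroup.center U).card_mul_index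
  rw [X.hcard, hh, X.card_center, Subgroup.index_eq_card] at h1
  exact Nat.eq_of_mul_eq_mul_left (Nat.add_one_pos e) (h1.trans (by ring))

theorem lin_card : Nat.card {l : U →* ℂˣ // ∀ z ∈ Subgroup.center U, l z = 1} = (e + 1) ^ 2 := by
  haveI : Fintype (U ⧸ Subgroup.center U) := Fintype.ofFinite _
  let f : (U ⧸ Subgroup.center U →* ℂˣ) ≃ {l : U →* ℂˣ // ∀ z ∈ Subgroup.center U, l z = 1} :=
    { toFun := fun l => ⟨l.comp (QuotientGroup.mk' _), fun u hu => by
        rw [MonoidHom.comp_apply, QuotientGroup.mk'_apply, (QuotientGroup.eq_one_iff u).2 hu, map_one]⟩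
      invFun := fun l => QuotientGroup.lift _ l.1 fun u hu => MonoidHom.mem_ker.2 (l.2 u hu)
      left_inv := fun l => by
        ext g; rfl
      right_inv := fun l => by ext g; rfl }
  have hc : commutator (U ⧸ Subgroup.center U) = ⊥ := by
    rw [commutator_def, Subgroup.commutator_eq_bot_iff_le_centralizer]
    intro x _
    rw [Subgroup.mem_centralizer_iff]
    exact fun y _ => X.quot_comm y x
  rw [← Nat.card_congr f, card_hom_units, hc, Subgroup.index_bot, X.quot_card hh]

open scoped Classical in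
theorem lin_sum [Fintype (U →* ℂˣ)] (u : U) :
    ∑ l ∈ (Finset.univ.filter fun l : U →* ℂˣ => ∀ z ∈ Subgroup.center U, l z = 1), (l u : ℂ) =
      if u ∈ Subgroup.center U then ((e : ℂ) + 1) ^ 2 else 0 := by
  classical
  set L := Finset.univ.filter fun l : U →* ℂˣ => ∀ z ∈ Subgroup.center U, l z = 1 with hL
  split_ifs with hu
  · rw [Finset.sum_congr rfl (g := fun _ => (1 : ℂ)) fun l hl => by
      rw [(Finset.mem_filter.1 hl).2 u hu, Units.val_one], Finset.sum_const, nsmul_one, hL,
      ← Fintype.card_subtype, ← Nat.card_eq_fintype_card, X.lin_card hh]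
    push_cast
    ring
  · haveI : Fintype (U ⧸ Subgroup.center U) := Fintype.ofFinite _
    letI : CommGroup (U ⧸ Subgroup.center U) :=
      { (inferInstance : Group (U ⧸ Subgroup.center U)) with mul_comm := X.quot_comm }
    obtain ⟨φ, hφ⟩ := CommGroup.exists_apply_ne_one_of_hasEnoughRootsOfUnity (U ⧸ Subgroup.center U) ℂ
      (a := (u : U ⧸ Subgroup.center U)) (fun e' => hu ((QuotientGroup.eq_one_iff u).1 e'))
    set l₀ : U →* ℂˣ := φ.comp (QuotientGroup.mk' _) with hl₀
    have hl₀L : ∀ z ∈ Subgroup.center U, l₀ z = 1 := fun z hz => by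
      rw [hl₀, MonoidHom.comp_apply, QuotientGroup.mk'_apply, (QuotientGroup.eq_one_iff z).2 hz, map_one]
    have h1 : ∑ l ∈ L, (l u : ℂ) = (l₀ u : ℂ) * ∑ l ∈ L, (l u : ℂ) := by
      rw [Finset.mul_sum]
      symm
      refine Finset.sum_equiv (Equiv.mulLeft l₀) (fun l => ?_) fun l _ => by simp
      simp only [hL, Finset.mem_filter, Finset.mem_univ, true_and, Equiv.coe_mulLeft, MonoidHom.mul_apply]
      exact ⟨fun hl z hz => by rw [hl₀L z hz, hl z hz, one_mul],
        fun hl z hz => by simpa [hl₀L z hz] using hl z hz⟩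
    rcases mul_left_eq_self₀.1 h1.symm with h2 | h2
    · refine absurd (Units.ext ?_) hφ
      rw [Units.val_one, ← h2]
      rfl
    · exact h2

/-- An orbit of non-trivial linear characters trivial on the centre has `e` members. -/
theorem orbit_card [DecidableEq (U →* ℂˣ)] {η : U →* ℂˣ} (hη : η ≠ 1) :
    (Finset.univ.image fun x : ↥(stabilizer G a) => X.toCtx.twist x η).card = e := by
  classical
  have hcard := Finset.card_eq_sum_card_fiberwise (s := (Finset.univ : Finset ↥(stabilizer G a)))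
    (f := fun x => X.toCtx.twist x η) (t := Finset.univ.image fun x : ↥(stabilizer G a) => X.toCtx.twist x η)
    fun x _ => by simp
  rw [Finset.sum_congr rfl (g := fun _ => h) fun η' hη' => ?_, Finset.sum_const, smul_eq_mul, Finset.card_univ,
    ← Nat.card_eq_fintype_card, X.toCtx.card_stab, mul_comm h e] at hcard
  · exact (Nat.eq_of_mul_eq_mul_right (show 0 < h by have := X.two; omega) hcard).symm
  · obtain ⟨x₀, -, rfl⟩ := Finset.mem_image.1 hη'
    refine Eq.trans ?_ (X.toCtx.mult_self hη)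
    rw [Nat.card_eq_fintype_card, Fintype.card_subtype]
    refine Finset.card_equiv (Equiv.mulLeft x₀⁻¹) fun x => ?_
    simp only [Finset.mem_filter, Finset.mem_univ, true_and, Equiv.coe_mulLeft]
    rw [← Ctx.twist_twist]
    have h1 : ∀ ψ : U →* ℂˣ, X.toCtx.twist 1 ψ = ψ := fun ψ => X.toCtx.twist_of_mem 1 U.one_mem ψ
    constructor
    · intro hx
      rw [hx, Ctx.twist_twist, inv_mul_cancel, h1]
    · intro hx
      conv_rhs => rw [← hx]
      rw [Ctx.twist_twist, mul_inv_cancel, h1]

end SCtx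

end Cfsg.Agent.Lie.ZassenhausSuzuki
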