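import Mathlib

/-!
Sets of the same size pairwise meeting in all but one point, with a common point, form a sunflower.
-/

set_option autoImplicit false

namespace Cfsg.Agent.Lie.ZassenhausSuzuki

theorem sunflower {α : Type*} [DecidableEq α] (F : Finset (Finset α)) {k : ℕ} (s : α)
    (hcard : ∀ S ∈ F, S.card = k + 1) (hinter : ∀ S ∈ F, ∀ T ∈ F, S ≠ T → (S ∩ T).card = k)
    (hs : ∀ S ∈ F, s ∈ S) (hbig : F.card = k + 2) (hk : 1 ≤ k) :
    ∃ C : Finset α, C.card = k ∧ ∀ S ∈ F, C ⊆ S := by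
  obtain ⟨S₁, h₁, S₂, h₂, hne⟩ := Finset.one_lt_card.1 (show 1 < F.card by omega)
  set C := S₁ ∩ S₂ with hC
  have hCc : C.card = k := hinter S₁ h₁ S₂ h₂ hne
  have hC1 : C ⊆ S₁ := Finset.inter_subset_left
  have hC2 : C ⊆ S₂ := Finset.inter_subset_right
  obtain ⟨x₁, hx₁⟩ := Finset.card_eq_one.1 (show (S₁ \ C).card = 1 by
    rw [Finset.card_sdiff_of_subset hC1, hcard S₁ h₁, hCc]; omega)
  obtain ⟨x₂, hx₂⟩ := Finset.card_eq_one.1 (show (S₂ \ C).card = 1 by
    rw [Finset.card_sdiff_of_subset hC2, hcard S₂ h₂, hCc]; omega)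
  have e₁ : S₁ = insert x₁ C := by
    rw [Finset.insert_eq, ← hx₁, Finset.sdiff_union_of_subset hC1]
  have e₂ : S₂ = insert x₂ C := by
    rw [Finset.insert_eq, ← hx₂, Finset.sdiff_union_of_subset hC2]
  have hm₁ := Finset.mem_sdiff.1 (show x₁ ∈ S₁ \ C by rw [hx₁]; exact Finset.mem_singleton_self _)
  have hm₂ := Finset.mem_sdiff.1 (show x₂ ∈ S₂ \ C by rw [hx₂]; exact Finset.mem_singleton_self _)
  by_contra hno
  push Not at hno
  obtain ⟨T, hT, hTC⟩ := hno C hCc
  have hshape : ∀ S ∈ F, ¬ C ⊆ S → ∃ c ∈ C, c ≠ s ∧ S = (insert x₁ (insert x₂ C)).erase c := by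
    intro S hS hSC
    obtain ⟨c, hc, hcS⟩ := Finset.not_subset.1 hSC
    refine ⟨c, hc, fun e' => hcS (e' ▸ hs S hS), ?_⟩
    have hx : ∀ x S', S' ∈ F → S' = insert x C → x ∈ S ∧ C.erase c ⊆ S := by
      intro x S' hS' he
      have hne' : S ≠ S' := fun e' => hcS (by rw [e', he]; exact Finset.mem_insert_of_mem hc)
      have h1 : S ∩ S' ⊆ (insert x C).erase c := fun y hy => by
        rw [Finset.mem_inter] at hy
        rw [← he, Finset.mem_erase]
        exact ⟨fun e' => hcS (e' ▸ hy.1), hy.2⟩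
      have hxC : x ∉ C := fun e' => by
        have h3 := hcard S' hS'
        rw [he, Finset.insert_eq_of_mem e', hCc] at h3
        omega
      have h2 := Finset.eq_of_subset_of_card_le h1 (by
        rw [hinter S hS S' hS' hne', Finset.card_erase_of_mem (Finset.mem_insert_of_mem hc),
          Finset.card_insert_of_notMem hxC, hCc]
        omega)
      refine ⟨(Finset.mem_inter.1 (h2 ▸ Finset.mem_erase.2 ⟨fun (e' : x = c) => hxC (e' ▸ hc), Finset.mem_insert_self x C⟩)).1,
        fun y hy => ?_⟩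
      rw [Finset.mem_erase] at hy
      exact (Finset.mem_inter.1 (h2 ▸ Finset.mem_erase.2 ⟨hy.1, Finset.mem_insert_of_mem hy.2⟩)).1
    obtain ⟨hxS₁, hsub⟩ := hx x₁ S₁ h₁ e₁
    obtain ⟨hxS₂, -⟩ := hx x₂ S₂ h₂ e₂
    have hx12 : x₁ ≠ x₂ := fun e' => hne (by rw [e₁, e₂, e'])
    refine (Finset.eq_of_subset_of_card_le (fun y hy => ?_) ?_).symm
    · rw [Finset.mem_erase, Finset.mem_insert, Finset.mem_insert] at hy
      rcases hy.2 with rfl | rfl | h'
      exacts [hxS₁, hxS₂, hsub (Finset.mem_erase.2 ⟨hy.1, h'⟩)]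
    · rw [hcard S hS, Finset.card_erase_of_mem (by simp [hc]),
        Finset.card_insert_of_notMem (by simp [hx12, hm₁.2]), Finset.card_insert_of_notMem hm₂.2, hCc]
      omega
  obtain ⟨c, hc, -, hTe⟩ := hshape T hT hTC
  -- every other set has the same shape
  have hall : ∀ S ∈ (F.erase S₁).erase S₂, ¬ C ⊆ S := by
    intro S hS hCS
    simp only [Finset.mem_erase] at hS
    obtain ⟨x, hx⟩ := Finset.card_eq_one.1 (show (S \ C).card = 1 by
      rw [Finset.card_sdiff_of_subset hCS, hcard S hS.2.2, hCc]; omega)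
    have e : S = insert x C := by rw [Finset.insert_eq, ← hx, Finset.sdiff_union_of_subset hCS]
    have hmx := Finset.mem_sdiff.1 (show x ∈ S \ C by rw [hx]; exact Finset.mem_singleton_self _)
    have hxn : x ≠ x₁ ∧ x ≠ x₂ := ⟨fun e' => hS.2.1 (by rw [e, e₁, e']), fun e' => hS.1 (by rw [e, e₂, e'])⟩
    have hne' : S ≠ T := fun e' => hTC (e' ▸ hCS)
    have h1 : S ∩ T ⊆ C.erase c := fun y hy => by
      rw [Finset.mem_inter, hTe, Finset.mem_erase, Finset.mem_insert, Finset.mem_insert, e, Finset.mem_insert] at hy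
      rw [Finset.mem_erase]
      refine ⟨hy.2.1, ?_⟩
      rcases hy.1 with rfl | h'
      · rcases hy.2.2 with h'' | h'' | h''
        exacts [absurd h'' hxn.1, absurd h'' hxn.2, h'']
      · exact h'
    have h2 := Finset.card_le_card h1
    rw [hinter S hS.2.2 T hT hne', Finset.card_erase_of_mem hc, hCc] at h2
    omega
  -- too many of them
  have hsC : s ∈ C := Finset.mem_inter.2 ⟨hs S₁ h₁, hs S₂ h₂⟩
  have hle : ((F.erase S₁).erase S₂).card ≤ (C.erase s).card := by
    refine le_trans (Finset.card_le_card fun S hS => ?_) (Finset.card_image_le (f := fun c => (insert x₁ (insert x₂ C)).erase c))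
    obtain ⟨c', hc', hcs, he⟩ := hshape S (Finset.mem_of_mem_erase (Finset.mem_of_mem_erase hS)) (hall S hS)
    exact Finset.mem_image.2 ⟨c', Finset.mem_erase.2 ⟨hcs, hc'⟩, he.symm⟩
  rw [Finset.card_erase_of_mem hsC, Finset.card_erase_of_mem (Finset.mem_erase.2 ⟨hne.symm, h₂⟩),
    Finset.card_erase_of_mem h₁, hbig, hCc] at hle
  omega

end Cfsg.Agent.Lie.ZassenhausSuzuki
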