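import Mathlib
import Cfsg.Agent.Lib.Lie.ZassenhausSuzuki.Linear
import Cfsg.Agent.Lib.Lie.ZassenhausSuzuki.Sunflower
import Cfsg.Agent.Lib.Lie.ZassenhausSuzuki.Eigen
import Cfsg.Agent.Lib.Char.RealRealization
import Cfsg.Agent.Lib.Char.SquareRoots
import Cfsg.Agent.Lib.Char.BrolineGarrison

/-!
The kernel does not have order the cube of the order of its centre.
-/

set_option autoImplicit false
set_option linter.unusedSectionVars false
set_option linter.style.haveILetI false

namespace Cfsg.Agent.Lie.ZassenhausSuzuki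

open MulAction Cfsg
open Cfsg.Agent.Lie.ZassenhausCount
open Cfsg.Agent.Lie.Feit (Ctx)
open Cfsg.Agent.Char
open scoped ComplexConjugate

universe u v

/-- The pattern of multiplicities. -/
theorem zero_one_pattern {ι : Type*} [Fintype ι] (A : ι → ℕ) (ν : ι → ℤ) (q : ℕ) (hν : ∀ i, ν i ≤ 1)
    (h1 : ∑ i, A i * A i = q) (h2 : ∑ i, ν i * (A i : ℤ) = q) :
    (∀ i, A i ≤ 1) ∧ (∀ i, A i = 1 → ν i = 1) := by
  have h1' : ∑ i, ((A i : ℤ) * A i) = q := by exact_mod_cast h1
  have hle : ∀ i ∈ (Finset.univ : Finset ι), ν i * (A i : ℤ) ≤ (A i : ℤ) * A i := fun i _ =>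
    (mul_le_of_le_one_left (by positivity) (hν i)).trans (by exact_mod_cast Nat.le_mul_self (A i))
  have heq := (Finset.sum_eq_sum_iff_of_le hle).1 (h2.trans h1'.symm)
  refine ⟨fun i => ?_, fun i hi => ?_⟩
  · by_contra hgt
    have h3 := heq i (Finset.mem_univ _)
    have h4 : ν i * (A i : ℤ) ≤ A i := mul_le_of_le_one_left (by positivity) (hν i)
    have h5 : (2 : ℤ) * A i ≤ (A i : ℤ) * A i := mul_le_mul_of_nonneg_right (by omega) (by positivity)
    omega
  · have h3 := heq i (Finset.mem_univ _)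
    rw [hi] at h3
    simpa using h3

variable {G : Type u} {Ω : Type v} [Group G] [Fintype G] [MulAction G Ω] [Fintype Ω] [FaithfulSMul G Ω]
  [IsSimpleGroup G] {U : Subgroup G} {a b : Ω} {h e : ℕ}

namespace SCtx

variable (X : SCtx G Ω U a b h e) [Fintype ↥(stabilizer G a)] [Fintype U]
include X

open scoped Classical in
theorem roots_val (hh : h = (e + 1) ^ 3) (u : U) :
    (Finset.univ.filter fun v : G => v * v = (u : G)).card =
      if u = 1 then 1 + (h + 1) * e else if u * u = 1 then (e + 1) * (e + 2) else 0 := by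
  split_ifs with h1 h2
  · subst h1
    exact X.roots_one
  · have h3 := X.roots_in h1 h2
    rw [hh] at h3
    refine Nat.eq_of_mul_eq_mul_left X.toCtx.e_pos ?_
    linarith
  · exact X.roots_out h2

open scoped Classical in
theorem indicator_sum (hh : h = (e + 1) ^ 3) {l : U →* ℂˣ} (hl : ∀ z ∈ Subgroup.center U, l z = 1) :
    ∑ χ : IrrCharacter G, indicator2 (χ : G → ℂ) * classInner (fun u : U => (χ : G → ℂ) u) (fun u => (l u : ℂ)) =
      (e : ℂ) + 1 := by
  have hh0 : (h : ℂ) ≠ 0 := Nat.cast_ne_zero.2 (by have := X.two; omega)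
  simp only [classInner, X.hcard, Finset.mul_sum]
  rw [Finset.sum_comm, Finset.sum_congr rfl (g := fun u : U => (h : ℂ)⁻¹ *
    ((((Finset.univ.filter fun v : G => v * v = (u : G)).card : ℕ) : ℂ) * conj ((l u : ℂ)))) fun u _ => by
      rw [← sum_indicator_mul (u : G), Finset.sum_mul, Finset.mul_sum]
      exact Finset.sum_congr rfl fun χ _ => by ring]
  rw [← Finset.mul_sum, inv_mul_eq_iff_eq_mul₀ hh0,
    ← Finset.sum_filter_add_sum_filter_not Finset.univ (fun u : U => u * u = 1),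
    Finset.sum_eq_zero (s := Finset.univ.filter fun u : U => ¬ u * u = 1) fun u hu => by
      have hu' := (Finset.mem_filter.1 hu).2
      rw [X.roots_val hh, if_neg (fun e' => hu' (by rw [e', one_mul])), if_neg hu', Nat.cast_zero, zero_mul],
    add_zero, Finset.sum_congr rfl fun u hu => by
      rw [hl u ((X.center_iff u).2 (Finset.mem_filter.1 hu).2), Units.val_one, map_one, mul_one, X.roots_val hh,
        if_pos (Finset.mem_filter.1 hu).2],
    ← Finset.add_sum_erase _ _ (show (1 : U) ∈ Finset.univ.filter fun u : U => u * u = 1 by simp), if_pos rfl,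
    Finset.sum_congr rfl fun u hu => by rw [if_neg (Finset.mem_erase.1 hu).1],
    Finset.sum_const, Finset.card_erase_of_mem (by simp), X.card_center_filter, Nat.add_sub_cancel, hh,
    nsmul_eq_mul]
  push_cast
  ring

theorem center_sum_values (χ : IrrCharacter G) {z₀ : U} (hz₀ : z₀ ≠ 1) (hzz : z₀ * z₀ = 1) {z : U} (hz : z ≠ 1)
    (hzc : z * z = 1) : (χ : G → ℂ) z = (χ : G → ℂ) z₀ := by
  obtain ⟨x, -, hx⟩ := X.trans z₀.2 (fun h1 => hz₀ (Subtype.ext h1)) (congrArg Subtype.val hzz) z.2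
    (fun h1 => hz (Subtype.ext h1)) (congrArg Subtype.val hzc)
  rw [← hx]
  exact isClassFunction_character (irr_isCharacter χ.2) _ x

open scoped Classical in
theorem lin_sum_mult (hh : h = (e + 1) ^ 3) [Fintype (U →* ℂˣ)] (χ : IrrCharacter G) {z₀ : U} (hz₀ : z₀ ≠ 1)
    (hzz : z₀ * z₀ = 1) :
    ((e : ℂ) + 1) * ∑ l ∈ (Finset.univ.filter fun l : U →* ℂˣ => ∀ z ∈ Subgroup.center U, l z = 1),
      classInner (fun u : U => (χ : G → ℂ) u) (fun u => (l u : ℂ)) =
      (χ : G → ℂ) 1 + (e : ℂ) * (χ : G → ℂ) z₀ := by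
  have he : (e : ℂ) + 1 ≠ 0 := by exact_mod_cast Nat.succ_ne_zero e
  simp only [classInner, X.hcard, Finset.mul_sum]
  rw [Finset.sum_comm, Finset.sum_congr rfl (g := fun u : U => ((e : ℂ) + 1) * (h : ℂ)⁻¹ * ((χ : G → ℂ) u *
    conj (∑ l ∈ (Finset.univ.filter fun l : U →* ℂˣ => ∀ z ∈ Subgroup.center U, l z = 1), (l u : ℂ)))) fun u _ => by
      rw [map_sum, Finset.mul_sum, Finset.mul_sum]
      exact Finset.sum_congr rfl fun l _ => by ring]
  simp only [X.lin_sum hh, apply_ite conj, map_pow, map_add, map_one, map_natCast, map_zero, mul_ite, mul_zero,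
    ← Finset.sum_filter]
  rw [Finset.sum_congr (Finset.filter_congr fun u _ => X.center_iff u) fun u _ => rfl,
    ← Finset.add_sum_erase _ _ (show (1 : U) ∈ Finset.univ.filter fun u : U => u * u = 1 by simp),
    Finset.sum_congr rfl (g := fun _ => ((e : ℂ) + 1) * (h : ℂ)⁻¹ * ((χ : G → ℂ) z₀ * ((e : ℂ) + 1) ^ 2))
      fun u hu => by
        rw [X.center_sum_values χ hz₀ hzz (Finset.mem_erase.1 hu).1
          (Finset.mem_filter.1 (Finset.mem_erase.1 hu).2).2],
    Finset.sum_const, Finset.card_erase_of_mem (by simp), X.card_center_filter, Nat.add_sub_cancel, hh,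
    nsmul_eq_mul, OneMemClass.coe_one]
  push_cast
  field_simp

omit [IsSimpleGroup G] [Fintype ↥(stabilizer G a)] in
theorem exists_mu : ∃ μ : Subgroup.center U →* ℝ, (∀ z, μ z * μ z = 1) ∧ ∃ z, μ z ≠ 1 := by
  obtain ⟨y, hy1, hyy, -⟩ := X.exists_other (z := 1)
  letI : CommGroup (Subgroup.center U) :=
    { (inferInstance : Group (Subgroup.center U)) with
      mul_comm := fun z w => Subtype.ext (Subgroup.mem_center_iff.1 w.2 z.1) }
  obtain ⟨φ, hφ⟩ := CommGroup.exists_apply_ne_one_of_hasEnoughRootsOfUnity (Subgroup.center U) ℂ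
    (a := ⟨y, (X.center_iff y).2 hyy⟩) (fun e' => hy1 (congrArg Subtype.val e'))
  have hpm : ∀ z, (φ z : ℂ) = 1 ∨ (φ z : ℂ) = -1 := fun z => mul_self_eq_one_iff.1 (by
    rw [← Units.val_mul, ← map_mul, show z * z = 1 from Subtype.ext ((X.center_iff _).1 z.2), map_one,
      Units.val_one])
  have him : ∀ z, (φ z : ℂ).im = 0 := fun z => by rcases hpm z with h1 | h1 <;> simp [h1]
  let μ : Subgroup.center U →* ℝ :=
    { toFun := fun z => (φ z : ℂ).re
      map_one' := by simp
      map_mul' := fun z w => by rw [map_mul, Units.val_mul, Complex.mul_re, him, zero_mul, sub_zero] }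
  refine ⟨μ, fun z => ?_, ⟨y, (X.center_iff y).2 hyy⟩, fun e' => hφ (Units.ext ?_)⟩
  · show (φ z : ℂ).re * (φ z : ℂ).re = 1
    rcases hpm z with h1 | h1 <;> simp [h1]
  · rcases hpm ⟨y, (X.center_iff y).2 hyy⟩ with h1 | h1
    · simpa using h1
    · exfalso
      change (φ _ : ℂ).re = 1 at e'
      rw [h1] at e'
      norm_num at e'

theorem gauss_sum (hh : h = (e + 1) ^ 3) (μ : Subgroup.center U →* ℝ) (hsum : ∑ᶠ z, μ z = 0) :
    ∑ u : U, μ ⟨u * u, X.sq_center u⟩ = -(((e + 1 : ℕ) : ℝ) ^ 2) := by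
  classical
  haveI := Fintype.ofFinite (Subgroup.center U)
  rw [finsum_eq_sum_of_fintype] at hsum
  have hfib : ∀ z : Subgroup.center U, (Finset.univ.filter fun u : U => (⟨u * u, X.sq_center u⟩ : Subgroup.center U) = z).card =
      if z = 1 then e + 1 else (e + 1) * (e + 2) := by
    intro z
    split_ifs with hz
    · subst hz
      rw [← X.card_center_filter]
      exact congrArg Finset.card (Finset.filter_congr fun u _ => by simp [Subtype.ext_iff])
    · have hz1 : (z : U) ≠ 1 := fun e' => hz (Subtype.ext e')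
      have hzz : (z : U) * z = 1 := (X.center_iff _).1 z.2
      have h1 := X.roots_val hh z
      rw [if_neg hz1, if_pos hzz] at h1
      rw [← h1]
      refine Finset.card_bij (fun (u : U) _ => (u : G)) (fun u hu => ?_) (fun u _ w _ huw => Subtype.ext huw)
        fun v hv => ?_
      · rw [Finset.mem_filter] at hu ⊢
        exact ⟨Finset.mem_univ _, congrArg Subtype.val (congrArg Subtype.val hu.2)⟩
      · rw [Finset.mem_filter] at hv
        exact ⟨⟨v, X.root_mem hz1 hv.2⟩, Finset.mem_filter.2 ⟨Finset.mem_univ _, Subtype.ext (Subtype.ext hv.2)⟩, rfl⟩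
  rw [← Finset.sum_fiberwise Finset.univ (fun u : U => (⟨u * u, X.sq_center u⟩ : Subgroup.center U))
    (fun u => μ ⟨u * u, X.sq_center u⟩), Finset.sum_congr rfl (g := fun z => ((if z = 1 then e + 1 else (e + 1) * (e + 2) : ℕ) : ℝ) * μ z)
      fun z _ => by
        rw [Finset.sum_congr rfl (g := fun _ => μ z) fun u hu => by rw [(Finset.mem_filter.1 hu).2], Finset.sum_const,
          nsmul_eq_mul, hfib],
    ← Finset.add_sum_erase _ _ (Finset.mem_univ (1 : Subgroup.center U)), if_pos rfl, map_one,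
    Finset.sum_congr rfl fun z hz => by rw [if_neg (Finset.mem_erase.1 hz).1], ← Finset.mul_sum,
    Finset.sum_erase_eq_sub (Finset.mem_univ _), hsum, map_one]
  push_cast
  ring

theorem false_of_cube (hh : h = (e + 1) ^ 3) : False := by
  classical
  haveI := X.hom_finite
  haveI : Fintype (U →* ℂˣ) := Fintype.ofFinite _
  haveI := Fintype.ofFinite (Subgroup.center U)
  have he3 := X.ethree
  have hh0 : (h : ℂ) ≠ 0 := Nat.cast_ne_zero.2 (by have := X.two; omega)
  set L := Finset.univ.filter fun l : U →* ℂˣ => ∀ z ∈ Subgroup.center U, l z = 1 with hL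
  have hLmem : ∀ l, l ∈ L ↔ ∀ z ∈ Subgroup.center U, l z = 1 := fun l => by simp [hL]
  have hone : (1 : U →* ℂˣ) ∈ L := (hLmem 1).2 fun z _ => rfl
  have hLc : (L.erase 1).card = e * (e + 2) := by
    rw [Finset.card_erase_of_mem hone, hL, ← Fintype.card_subtype, ← Nat.card_eq_fintype_card, X.lin_card hh]
    have : (e + 1) ^ 2 = e * (e + 2) + 1 := by ring
    omega
  -- multiplicities
  choose A hA using fun (l : U →* ℂˣ) (χ : IrrCharacter G) =>
    classInner_natCast (isCharacter_comp U.subtype (irr_isCharacter χ.2)) (isCharacter_linear l)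
  have hA' : ∀ (l : U →* ℂˣ) (χ : IrrCharacter G),
      classInner (fun u : U => (χ : G → ℂ) u) (fun u => (l u : ℂ)) = A l χ := hA
  have hone_twist : ∀ x : ↥(stabilizer G a), X.toCtx.twist x (1 : U →* ℂˣ) = 1 := fun x =>
    MonoidHom.ext fun u => by rw [Ctx.twist_apply]; rfl
  have hnone : ∀ l l', (∀ x : ↥(stabilizer G a), X.toCtx.twist x l' ≠ l) → ∑ χ, A l' χ * A l χ = e := by
    intro l l' hne
    have h1 := X.toCtx.mult_prod_all l l'
    haveI : IsEmpty {x : ↥(stabilizer G a) // X.toCtx.twist x l' = l} := ⟨fun x => hne x.1 x.2⟩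
    rw [Nat.card_of_isEmpty, Nat.cast_zero, mul_zero, add_zero] at h1
    simp only [hA'] at h1
    exact_mod_cast h1
  have hself : ∀ l, l ≠ 1 → ∑ χ, A l χ * A l χ = e + 1 := by
    intro l hl
    have h1 := X.toCtx.mult_prod_all l l
    rw [X.toCtx.mult_self hl, inv_mul_cancel₀ hh0] at h1
    simp only [hA'] at h1
    exact_mod_cast h1
  have hzero : ∑ χ, A 1 χ * A 1 χ = 2 * e := by
    have h1 := X.toCtx.mult_prod_all 1 1
    rw [Nat.card_congr (Equiv.subtypeUnivEquiv fun x => hone_twist x), X.toCtx.card_stab] at h1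
    simp only [hA'] at h1
    push_cast at h1
    rw [← mul_assoc, inv_mul_cancel₀ hh0, one_mul] at h1
    rw [two_mul]
    exact_mod_cast h1
  -- indicators
  have hνex : ∀ χ : IrrCharacter G, ∃ n : ℤ, indicator2 (χ : G → ℂ) = n ∧ n ≤ 1 := by
    intro χ
    rcases (indicator_trichotomy χ.2).1 with h1 | h1 | h1
    exacts [⟨0, by simp [h1], by norm_num⟩, ⟨1, by simp [h1], le_rfl⟩, ⟨-1, by simp [h1], by norm_num⟩]
  choose ν hν hν1 using hνex
  have hpat : ∀ l ∈ L.erase 1, (∀ χ, A l χ ≤ 1) ∧ ∀ χ, A l χ = 1 → ν χ = 1 := by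
    intro l hl
    rw [Finset.mem_erase] at hl
    refine zero_one_pattern (A l) ν (e + 1) hν1 (hself l hl.1) ?_
    have h1 := X.indicator_sum hh ((hLmem l).1 hl.2)
    simp only [hA', hν] at h1
    push_cast
    exact_mod_cast h1
  set S := fun l : U →* ℂˣ => Finset.univ.filter fun χ : IrrCharacter G => A l χ = 1 with hS
  have hSmem : ∀ l χ, χ ∈ S l ↔ A l χ = 1 := fun l χ => by simp [hS]
  have hAind : ∀ l ∈ L.erase 1, ∀ χ, A l χ = if χ ∈ S l then 1 else 0 := fun l hl χ => by
    have := (hpat l hl).1 χ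
    split_ifs with h1 <;> rw [hSmem] at h1 <;> omega
  have hsumS : ∀ l ∈ L.erase 1, ∀ f : IrrCharacter G → ℕ, ∑ χ, f χ * A l χ = ∑ χ ∈ S l, f χ := by
    intro l hl f
    simp only [hAind l hl, mul_ite, mul_one, mul_zero, Finset.sum_ite_mem, Finset.univ_inter]
  have hScard : ∀ l ∈ L.erase 1, (S l).card = e + 1 := fun l hl => by
    rw [← hself l (Finset.mem_erase.1 hl).1, hsumS l hl, Finset.card_eq_sum_ones]
    exact Finset.sum_congr rfl fun χ hχ => ((hSmem l χ).1 hχ).symm
  have horb : ∀ l ∈ L.erase 1, ∀ l' ∈ L.erase 1, (∃ x, X.toCtx.twist x l' = l) → S l' = S l := by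
    rintro l - l' - ⟨x, rfl⟩
    ext χ
    rw [hSmem, hSmem]
    have h1 := X.toCtx.inner_twist χ x l'
    rw [hA', hA', Nat.cast_inj] at h1
    rw [h1]
  have hinter : ∀ l ∈ L.erase 1, ∀ l' ∈ L.erase 1, (∀ x, X.toCtx.twist x l' ≠ l) → (S l' ∩ S l).card = e := by
    intro l hl l' hl' hne
    rw [← hnone l l' hne, hsumS l hl, Finset.sum_congr rfl fun χ _ => hAind l' hl' χ, ← Finset.sum_filter,
      ← Finset.card_eq_sum_ones, Finset.filter_mem_eq_inter, Finset.inter_comm]
  set F := (L.erase 1).image S with hF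
  have hFinter : ∀ T ∈ F, ∀ T' ∈ F, T ≠ T' → (T ∩ T').card = e := by
    intro T hT T' hT' hne
    obtain ⟨l, hl, rfl⟩ := Finset.mem_image.1 hT
    obtain ⟨l', hl', rfl⟩ := Finset.mem_image.1 hT'
    exact hinter l' hl' l hl fun x hx => hne (horb l' hl' l hl ⟨x, hx⟩)
  have hfib : ∀ l ∈ L.erase 1, ((L.erase 1).filter fun l' => S l' = S l).card = e := by
    intro l hl
    have hl1 := (Finset.mem_erase.1 hl).1
    refine Eq.trans (congrArg Finset.card ?_) (X.orbit_card hh hl1)
    ext l'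
    simp only [Finset.mem_filter, Finset.mem_image, Finset.mem_univ, true_and]
    constructor
    · rintro ⟨hl', hS'⟩
      by_contra hne
      push Not at hne
      have h2 := hinter l' hl' l hl hne
      rw [hS', Finset.inter_self, hScard l hl] at h2
      omega
    · rintro ⟨x, rfl⟩
      have hl' : X.toCtx.twist x l ∈ L.erase 1 := by
        refine Finset.mem_erase.2 ⟨fun e' => hl1 ?_, (hLmem _).2 (X.twist_center x ((hLmem l).1 (Finset.mem_erase.1 hl).2))⟩
        have h2 := congrArg (X.toCtx.twist x⁻¹) e'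
        rw [Ctx.twist_twist, inv_mul_cancel, X.toCtx.twist_of_mem 1 U.one_mem, hone_twist] at h2
        exact h2
      exact ⟨hl', (horb _ hl' l hl ⟨x, rfl⟩).symm⟩
  have hFcard : F.card = e + 2 := by
    have h1 := Finset.card_eq_sum_card_fiberwise (s := L.erase 1) (f := S) (t := F)
      fun l hl => Finset.mem_image_of_mem _ hl
    rw [hLc, Finset.sum_congr rfl (g := fun _ => e) fun T hT => ?_, Finset.sum_const, smul_eq_mul] at h1
    · exact Nat.eq_of_mul_eq_mul_left X.toCtx.e_pos (by rw [h1, mul_comm])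
    · obtain ⟨l, hl, rfl⟩ := Finset.mem_image.1 hT
      exact hfib l hl
  -- the Steinberg character and the trivial character
  set st : IrrCharacter G := ⟨_, X.toCtx.st_irr⟩ with hst
  set triv : IrrCharacter G := ⟨_, isIrrCharacter_one⟩ with htriv
  have hstA : ∀ l, A l st = 1 := by
    intro l
    have h1 := hA' l st
    rw [classInner, Finset.sum_eq_single (1 : U) (fun u _ hu => ?_) (by simp), X.hcard] at h1
    · simp only [hst, OneMemClass.coe_one, X.toCtx.permChar_one, map_one, Units.val_one, mul_one,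
        add_sub_cancel_right, inv_mul_cancel₀ hh0] at h1
      exact Nat.cast_eq_one.1 h1.symm
    · simp only [hst, X.toCtx.permChar_of_mem u.2 (fun e' => hu (Subtype.ext e')), sub_self, zero_mul]
  have htrivA : ∀ l ∈ L.erase 1, A l triv = 0 := by
    intro l hl
    have h1 := hA' l triv
    rw [classInner] at h1
    simp only [htriv, one_mul, Ctx.sum_lin l (Finset.mem_erase.1 hl).1, mul_zero] at h1
    exact_mod_cast h1.symm
  have htriv1 : A 1 triv = 1 := by
    have h1 := hA' 1 triv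
    rw [classInner, X.hcard] at h1
    simp only [htriv, MonoidHom.one_apply, Units.val_one, map_one, mul_one, Finset.sum_const, Finset.card_univ,
      nsmul_one, ← Nat.card_eq_fintype_card, X.hcard, inv_mul_cancel₀ hh0] at h1
    exact_mod_cast h1.symm
  obtain ⟨C, hCc, hCsub⟩ := sunflower F st (k := e) (fun T hT => by
      obtain ⟨l, hl, rfl⟩ := Finset.mem_image.1 hT
      exact hScard l hl) hFinter (fun T hT => by
      obtain ⟨l, hl, rfl⟩ := Finset.mem_image.1 hT
      exact (hSmem l st).2 (hstA l)) hFcard X.toCtx.e_pos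
  set J := F.biUnion fun T => T \ C with hJ
  have honeC : ∀ T ∈ F, (T \ C).card = 1 := fun T hT => by
    obtain ⟨l, hl, rfl⟩ := Finset.mem_image.1 hT
    rw [Finset.card_sdiff_of_subset (hCsub _ hT), hScard l hl, hCc]
    omega
  have honly : ∀ T ∈ F, ∀ T' ∈ F, ∀ χ, χ ∈ T → χ ∈ T' → χ ∉ C → T = T' := by
    intro T hT T' hT' χ h1 h2 h3
    by_contra hne
    refine h3 ?_
    rw [Finset.eq_of_subset_of_card_le (show C ⊆ T ∩ T' from Finset.subset_inter (hCsub T hT) (hCsub T' hT'))
      (by rw [hFinter T hT T' hT' hne, hCc])]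
    exact Finset.mem_inter.2 ⟨h1, h2⟩
  have hJcard : J.card = e + 2 := by
    rw [hJ, Finset.card_biUnion ?_, Finset.sum_congr rfl honeC, Finset.sum_const, smul_eq_mul, mul_one, hFcard]
    intro T hT T' hT' hne
    refine Finset.disjoint_left.2 fun χ h1 h2 => hne ?_
    rw [Finset.mem_sdiff] at h1 h2
    exact honly T hT T' hT' χ h1.1 h2.1 h1.2
  -- multiplicity of the trivial character
  have hJc : ∀ χ ∈ J, A 1 χ + ∑ φ ∈ C, A 1 φ = e := by
    intro χ hχ
    obtain ⟨T, hT, hχT⟩ := Finset.mem_biUnion.1 hχ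
    obtain ⟨l, hl, rfl⟩ := Finset.mem_image.1 hT
    obtain ⟨y, hy⟩ := Finset.card_eq_one.1 (honeC _ hT)
    rw [hy, Finset.mem_singleton] at hχT
    subst hχT
    rw [← hnone l 1 (fun x hx => (Finset.mem_erase.1 hl).1 (by rw [← hx, hone_twist])), hsumS l hl,
      ← Finset.sum_sdiff (hCsub _ hT), hy, Finset.sum_singleton]
  have hc0 : ∀ χ ∈ J, A 1 χ = 0 := by
    intro χ hχ
    by_contra hne
    have hC0 : ∀ φ ∈ J, A 1 φ = A 1 χ := fun φ hφ => by
      have := hJc φ hφ
      have := hJc χ hχ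
      omega
    have htC : triv ∉ C ∧ triv ∉ J := by
      have hT : ∀ T ∈ F, triv ∉ T := fun T hT h1 => by
        obtain ⟨l, hl, rfl⟩ := Finset.mem_image.1 hT
        rw [hSmem, htrivA l hl] at h1
        omega
      obtain ⟨T, hT'⟩ := Finset.card_pos.1 (show 0 < F.card by omega)
      refine ⟨fun h1 => hT T hT' (hCsub T hT' h1), fun h1 => ?_⟩
      obtain ⟨T, hT', h2⟩ := Finset.mem_biUnion.1 h1
      exact hT T hT' (Finset.mem_sdiff.1 h2).1
    have hdis : Disjoint C J := Finset.disjoint_left.2 fun φ h1 h2 => by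
      obtain ⟨T, -, h3⟩ := Finset.mem_biUnion.1 h2
      exact (Finset.mem_sdiff.1 h3).2 h1
    have h1 : ∑ φ ∈ insert triv (C ∪ J), A 1 φ * A 1 φ ≤ 2 * e := by
      rw [← hzero]
      exact Finset.sum_le_univ_sum_of_nonneg fun _ => Nat.zero_le _
    rw [Finset.sum_insert (by simp [htC]), Finset.sum_union hdis, htriv1,
      Finset.sum_congr (s₁ := J) rfl (g := fun _ => A 1 χ * A 1 χ) fun φ hφ => by rw [hC0 φ hφ], Finset.sum_const, hJcard,
      smul_eq_mul] at h1
    have h2 : ∑ φ ∈ C, A 1 φ ≤ ∑ φ ∈ C, A 1 φ * A 1 φ := Finset.sum_le_sum fun φ _ => Nat.le_mul_self _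
    have h3 := hJc χ hχ
    have h4 : A 1 χ ≤ A 1 χ * A 1 χ := Nat.le_mul_self _
    have h5 : 1 ≤ A 1 χ * A 1 χ := Nat.one_le_iff_ne_zero.2 (by simpa using hne)
    nlinarith
  -- the involution
  obtain ⟨z₀, hz₀, hzz, -⟩ := X.exists_other (z := (1 : G))
  have hzG : (z₀ : G) ≠ 1 := fun e' => hz₀ (Subtype.ext e')
  have hbig : ∀ χ ∈ J, ((e : ℝ) + 2) ^ 2 ≤ Complex.normSq ((χ : G → ℂ) z₀) := by
    intro χ hχ
    obtain ⟨T, hT, hχT⟩ := Finset.mem_biUnion.1 hχ
    obtain ⟨l, hl, rfl⟩ := Finset.mem_image.1 hT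
    rw [Finset.mem_sdiff] at hχT
    have hind : indicator2 (χ : G → ℂ) = 1 := by
      rw [hν, (hpat l hl).2 χ ((hSmem l χ).1 hχT.1), Int.cast_one]
    obtain ⟨m, σ, hσ⟩ := exists_real_rep χ.2 hind
    have hsum : ∑ l' ∈ L, A l' χ = e := by
      rw [← Finset.add_sum_erase _ _ hone, hc0 χ hχ, zero_add, Finset.sum_congr rfl fun l' hl' => hAind l' hl' χ,
        ← Finset.sum_filter, ← Finset.card_eq_sum_ones, ← hfib l hl]
      refine congrArg Finset.card (Finset.filter_congr fun l' hl' => ⟨fun h1 => ?_, fun h1 => h1 ▸ hχT.1⟩)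
      exact honly _ (Finset.mem_image_of_mem _ hl') _ hT χ h1 hχT.1 hχT.2
    have hlin := X.lin_sum_mult hh χ hz₀ hzz
    rw [← hL, Finset.sum_congr rfl fun l' _ => hA' l' χ, ← Nat.cast_sum, hsum] at hlin
    rw [← hσ, ← hσ] at hlin
    set τ := LinearMap.trace ℝ (Fin m → ℝ) (σ (z₀ : G)) with hτdef
    set d := LinearMap.trace ℝ (Fin m → ℝ) (σ 1) with hddef
    have hlin' : ((e : ℝ) + 1) * e = d + e * τ := by exact_mod_cast hlin
    obtain ⟨μ, hμ, z₁, hz₁⟩ := X.exists_mu
    have hμsum : ∑ z, μ z = 0 := by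
      have h1 : ∑ z, μ z = μ z₁ * ∑ z, μ z := by
        conv_lhs => rw [← Equiv.sum_comp (Equiv.mulLeft z₁) fun z => μ z]
        simp [Finset.mul_sum]
      rcases mul_left_eq_self₀.1 h1.symm with h2 | h2
      exacts [absurd h2 hz₁, h2]
    obtain ⟨k, hk1, hk⟩ := eigen_bound (σ.comp U.subtype) (Subgroup.center U) le_rfl X.sq_center X.card_center
      (by rw [X.hcard, hh]) μ hμ (X.gauss_sum hh μ (by rw [finsum_eq_sum_of_fintype]; exact hμsum)) hμsum
      (τ := τ) (fun z hz => by
        show LinearMap.trace ℝ (Fin m → ℝ) (σ ((z : U) : G)) = τ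
        have h1 := X.center_sum_values χ hz₀ hzz (z := (z : U)) (fun e' => hz (Subtype.ext e'))
          ((X.center_iff _).1 z.2)
        rw [← hσ, ← hσ] at h1
        exact_mod_cast h1)
    have hk' : d - τ = ((e : ℝ) + 1) * (((e : ℝ) + 1) * k) := by
      have h1 := hk
      rw [map_one] at h1
      rw [hddef, map_one]
      push_cast at h1
      exact h1
    have hτ : τ = e - ((e : ℝ) + 1) * k := by
      have hne : ((e : ℝ) + 1) ≠ 0 := by positivity
      refine mul_left_cancel₀ hne ?_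
      linear_combination -hlin' - hk'
    rcases Nat.lt_or_ge k 2 with hlt | hge
    · obtain rfl : k = 0 := by omega
      exfalso
      -- the character would be trivial
      have hker : (z₀ : G) ∈ TwoDeg.kerC χ := by
        refine TwoDeg.mem_kerC_of_eq χ ?_
        rw [← hσ, ← hσ]
        rw [Nat.cast_zero, mul_zero, mul_zero, sub_eq_zero] at hk'
        exact_mod_cast hk'.symm
      haveI := TwoDeg.kerC_normal χ
      rcases Subgroup.Normal.eq_bot_or_eq_top (TwoDeg.kerC_normal χ) with hb | ht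
      · rw [hb, Subgroup.mem_bot] at hker
        exact hzG hker
      · have hconst : ∀ g : G, (χ : G → ℂ) g = (χ : G → ℂ) 1 := fun g =>
          (BG.mem_kerC_iff χ g).1 (ht ▸ Subgroup.mem_top g)
        have h1 := hA' l χ
        rw [(hSmem l χ).1 hχT.1, classInner] at h1
        simp only [hconst, ← Finset.mul_sum, Ctx.sum_lin l (Finset.mem_erase.1 hl).1, mul_zero, Nat.cast_one] at h1
        exact zero_ne_one h1
    · rw [← hσ, Complex.normSq_ofReal, ← hτdef, ← sq, ← neg_sq τ]
      have h2 : (2 : ℝ) ≤ k := by exact_mod_cast hge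
      have h3 : ((e : ℝ) + 1) * 2 ≤ ((e : ℝ) + 1) * k := mul_le_mul_of_nonneg_left h2 (by positivity)
      refine pow_le_pow_left₀ (by positivity) ?_ 2
      linarith
  -- column orthogonality
  have horth := second_orth (z₀ : G) (z₀ : G)
  rw [if_pos (IsConj.refl _)] at horth
  have hclass : Nat.card {x : G // IsConj (z₀ : G) x} = (h + 1) * e := by
    rw [← X.card_invols_eq, Nat.card_eq_fintype_card, Fintype.card_subtype]
    congr 1
    ext x
    simp only [invols, Finset.mem_filter, Finset.mem_univ, true_and]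
    refine ⟨fun hx => ?_, fun hx => invol_conj X.toOddCtx hzG (congrArg Subtype.val hzz) hx.1 hx.2⟩
    obtain ⟨k, rfl⟩ := isConj_iff.1 hx
    exact ⟨by rw [ne_eq, conj_eq_one_iff]; exact hzG,
      by rw [show k * (z₀ : G) * k⁻¹ * (k * z₀ * k⁻¹) = k * ((z₀ : G) * z₀) * k⁻¹ by group,
        show (z₀ : G) * z₀ = 1 from congrArg Subtype.val hzz]; group⟩
  rw [hclass, Nat.card_eq_fintype_card, card_group X.toOddCtx] at horth
  have hval : ∑ χ : IrrCharacter G, Complex.normSq ((χ : G → ℂ) z₀) = (h : ℝ) := by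
    apply Complex.ofReal_injective
    rw [Complex.ofReal_sum]
    simp only [← Complex.mul_conj]
    rw [horth]
    have : (e : ℂ) ≠ 0 := Nat.cast_ne_zero.2 X.toCtx.e_pos.ne'
    have : (h : ℂ) + 1 ≠ 0 := by exact_mod_cast Nat.succ_ne_zero h
    push_cast
    field_simp
  have hle : ∑ χ ∈ J, Complex.normSq ((χ : G → ℂ) z₀) ≤ (h : ℝ) := by
    rw [← hval]
    exact Finset.sum_le_univ_sum_of_nonneg fun _ => Complex.normSq_nonneg _
  have h1 := (Finset.card_nsmul_le_sum J _ _ hbig).trans hle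
  rw [hJcard, nsmul_eq_mul, hh] at h1
  push_cast at h1
  nlinarith [show (0 : ℝ) ≤ e from Nat.cast_nonneg e]

end SCtx

end Cfsg.Agent.Lie.ZassenhausSuzuki
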