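import Mathlib

/-!
The diophantine equation of the torus orders of a Suzuki group.
-/

set_option autoImplicit false

namespace Cfsg.Agent.Lie.ZassenhausSuzuki

theorem descent_small {b k : ℤ} (hb : 1 ≤ b) (he : (1 + b - 2) ^ 2 + 4 = 4 * k * (1 * b)) : k = 1 := by
  have h5 : b ∣ 5 := ⟨4 * k + 2 - b, by linear_combination he⟩
  have hle : b ≤ 5 := Int.le_of_dvd (by norm_num) h5
  interval_cases b <;> first | omega | (norm_num at h5)

theorem descent_two {b k : ℤ} (hb : 2 ≤ b) (he : (2 + b - 2) ^ 2 + 4 = 4 * k * (2 * b)) : False := by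
  have h4 : b ∣ 4 := ⟨8 * k - b, by linear_combination he⟩
  have hle : b ≤ 4 := Int.le_of_dvd (by norm_num) h4
  interval_cases b <;> omega

theorem descent_aux : ∀ n : ℕ, ∀ a b k : ℤ, 0 < a → a ≤ b → a + b ≤ n → 1 ≤ k →
    (a + b - 2) ^ 2 + 4 = 4 * k * (a * b) → k = 1 := by
  intro n
  induction n with
  | zero => intro a b k ha hab hn; omega
  | succ n ih =>
    intro a b k ha hab hn hk he
    rcases (show a = 1 ∨ a = 2 ∨ 3 ≤ a by omega) with rfl | rfl | ha3
    · exact descent_small (by omega) he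
    · exact (descent_two hab he).elim
    rcases eq_or_lt_of_le hab with rfl | hlt
    · exfalso
      nlinarith
    obtain ⟨c, hc⟩ : ∃ c : ℤ, c = (4 * k - 2) * a + 4 - b := ⟨_, rfl⟩
    have hprod : b * c = a ^ 2 - 4 * a + 8 := by rw [hc]; linear_combination -he
    have hpos : 0 < a ^ 2 - 4 * a + 8 := by nlinarith [sq_nonneg (a - 2)]
    have hcpos : 0 < c := by
      by_contra hle
      push Not at hle
      nlinarith [mul_nonneg (show (0 : ℤ) ≤ b by omega) (show (0 : ℤ) ≤ -c by omega)]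
    have hca : c < a := by
      by_contra hle
      push Not at hle
      nlinarith [mul_le_mul_of_nonneg_left hle (show (0 : ℤ) ≤ b by omega),
        mul_le_mul_of_nonneg_right (show a + 1 ≤ b by omega) (show (0 : ℤ) ≤ a by omega)]
    exact ih c a k hcpos hca.le (by omega) hk (by rw [hc]; linear_combination he)

/-- Two torus orders with sum `2q+2` whose product divides `q²+1` have product `q²+1`. -/
theorem prod_eq {a b q : ℕ} (ha : 0 < a) (hb : 0 < b) (hsum : a + b = 2 * q + 2) (hdvd : a * b ∣ q ^ 2 + 1) :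
    a * b = q ^ 2 + 1 := by
  obtain ⟨k, hk⟩ := hdvd
  suffices hk1 : (k : ℤ) = 1 by
    have : k = 1 := by exact_mod_cast hk1
    rw [this, mul_one] at hk
    exact hk.symm
  have hk' : ((q : ℤ)) ^ 2 + 1 = (a : ℤ) * b * k := by exact_mod_cast hk
  have hs' : (a : ℤ) + b = 2 * q + 2 := by exact_mod_cast hsum
  have hkpos : (1 : ℤ) ≤ k := by
    rcases Nat.eq_zero_or_pos k with h0 | h0
    · subst h0; simp at hk
    · exact_mod_cast h0
  have he : ((a : ℤ) + b - 2) ^ 2 + 4 = 4 * k * (a * b) := by rw [hs']; linear_combination 4 * hk'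
  rcases le_total a b with hle | hle
  · exact descent_aux (a + b) a b k (by exact_mod_cast ha) (by exact_mod_cast hle) (by omega) hkpos he
  · exact descent_aux (a + b) b a k (by exact_mod_cast hb) (by exact_mod_cast hle) (by omega) hkpos
      (by rw [show (b : ℤ) + a = a + b from add_comm _ _, mul_comm (b : ℤ) a]; exact he)

/-- If moreover `q = 2^n` then `n` is odd. -/
theorem odd_exponent {a b n : ℕ} (ha : 0 < a) (hb : 0 < b) (hsum : a + b = 2 * 2 ^ n + 2)
    (hdvd : a * b ∣ (2 ^ n) ^ 2 + 1) : Odd n := by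
  have hp := prod_eq ha hb hsum hdvd
  by_contra hn
  obtain ⟨m, rfl⟩ := Nat.not_odd_iff_even.1 hn
  have h1 : ((a : ℤ) - b) ^ 2 = 8 * (2 ^ m) ^ 2 := by
    have hp' : (a : ℤ) * b = (2 ^ (m + m)) ^ 2 + 1 := by exact_mod_cast hp
    have hs' : (a : ℤ) + b = 2 * 2 ^ (m + m) + 2 := by exact_mod_cast hsum
    linear_combination ((a : ℤ) + b + (2 * 2 ^ (m + m) + 2)) * hs' - 4 * hp'
  have h2 : IsSquare (8 : ℚ) := by
    refine ⟨((a : ℚ) - b) / 2 ^ m, ?_⟩
    rw [div_mul_div_comm, eq_div_iff (by positivity)]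
    have : ((((a : ℤ) - b) ^ 2 : ℤ) : ℚ) = ((8 * (2 ^ m) ^ 2 : ℤ) : ℚ) := by rw [h1]
    push_cast at this
    linear_combination -this
  rw [show (8 : ℚ) = ((8 : ℕ) : ℚ) by norm_num, Rat.isSquare_natCast_iff] at h2
  obtain ⟨r, hr⟩ := h2
  have : r < 3 := by nlinarith
  interval_cases r <;> omega

end Cfsg.Agent.Lie.ZassenhausSuzuki
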