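import Mathlib
import Cfsg.Agent.Lib.Lie.ZassenhausSuzuki.Basic
import Cfsg.Agent.Lib.Perm.GenTuples

/-!
Centralisers of fixed point free real elements when the kernel has order the square of its centre.
-/

set_option autoImplicit false
set_option linter.unusedSectionVars false
set_option linter.style.haveILetI false

namespace Cfsg.Agent.Lie.ZassenhausSuzuki

open MulAction
open Cfsg.Agent.Lie.ZassenhausCount
open Cfsg.Agent.Lie.Feit (Ctx)

universe u v

variable {G : Type u} {Ω : Type v} [Group G] [Fintype G] [MulAction G Ω] [Fintype Ω] [FaithfulSMul G Ω]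
  {U : Subgroup G} {a b : Ω} {h e : ℕ}

/-- A fixed point free element inverted by an involution. -/
def Real' (Ω : Type v) [MulAction G Ω] (g : G) : Prop :=
  (∀ c : Ω, g • c ≠ c) ∧ ∃ s : G, s ≠ 1 ∧ s * s = 1 ∧ s * g * s⁻¹ = g⁻¹

/-- The centraliser of an element. -/
abbrev cent (g : G) : Subgroup G := Subgroup.centralizer ({g} : Set G)

theorem mem_cent {g k : G} : k ∈ cent g ↔ k * g = g * k := Subgroup.mem_centralizer_singleton_iff

namespace SCtx

variable (X : SCtx G Ω U a b h e)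
include X

theorem exists_smul (c : Ω) : ∃ k : G, k • a = c := by
  haveI := X.h2
  haveI : IsPretransitive G Ω := isPretransitive_of_is_two_pretransitive
  exact MulAction.exists_smul_eq G a c

theorem sq_ne {g : G} (hg : ∀ c : Ω, g • c ≠ c) : g ≠ 1 ∧ g * g ≠ 1 := by
  have h1 : g ≠ 1 := fun e' => hg a (by rw [e', one_smul])
  refine ⟨h1, fun h2 => ?_⟩
  obtain ⟨c, hc⟩ := X.invol_one h1 h2
  exact hg c ((hc c).2 rfl)

theorem cent_fpf {g : G} (hg : ∀ c : Ω, g • c ≠ c) {k : G} (hk : k ∈ cent g) (hk1 : k ≠ 1) :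
    ∀ c : Ω, k • c ≠ c := by
  intro c hc
  rw [mem_cent] at hk
  have h1 : k • g • c = g • c := by rw [smul_smul, hk, mul_smul, hc]
  have h2 : k • g • g • c = g • g • c := by rw [smul_smul, hk, mul_smul, h1]
  by_cases h3 : g • g • c = c
  · exact (X.sq_ne hg).2 (swap_sq X.toOddCtx (Ne.symm (hg c)) rfl h3)
  · exact hk1 (X.h3 k c (g • c) (g • g • c) (Ne.symm (hg c)) (Ne.symm (hg (g • c))) (Ne.symm h3) hc h1 h2)

theorem cent_no_invol {g : G} (hg : ∀ c : Ω, g • c ≠ c) {k : G} (hk : k ∈ cent g) (hkk : k * k = 1) : k = 1 := by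
  by_contra hk1
  exact (X.sq_ne (X.cent_fpf hg hk hk1)).2 hkk

theorem cent_odd {g : G} (hg : ∀ c : Ω, g • c ≠ c) : Odd (Nat.card (cent g)) := by
  by_contra hev
  rw [Nat.not_odd_iff_even, even_iff_two_dvd] at hev
  haveI : Fact (Nat.Prime 2) := ⟨Nat.prime_two⟩
  obtain ⟨x, hx⟩ := exists_prime_orderOf_dvd_card' 2 hev
  have h1 := X.cent_no_invol hg x.2 (by
    have := congrArg Subtype.val (pow_orderOf_eq_one x)
    rwa [hx, sq, Subgroup.coe_mul, OneMemClass.coe_one] at this)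
  have : x = 1 := Subtype.ext h1
  rw [this, orderOf_one] at hx
  omega

theorem inverted {g : G} (hg : ∀ c : Ω, g • c ≠ c) {s : G} (hs1 : s ≠ 1) (hss : s * s = 1)
    (hsg : s * g * s⁻¹ = g⁻¹) {k : G} (hk : k ∈ cent g) : s * k * s⁻¹ = k⁻¹ := by
  have hmem : ∀ k ∈ cent g, s * k * s⁻¹ ∈ cent g := fun k hk => by
    rw [mem_cent] at hk ⊢
    have hg' : g = s * g⁻¹ * s⁻¹ := by
      have := congrArg Inv.inv hsg
      rw [inv_inv] at this
      exact this.symm.trans (by group)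
    have hk' : k * g⁻¹ = g⁻¹ * k := (show Commute k g from hk).inv_right
    calc s * k * s⁻¹ * g = s * k * s⁻¹ * (s * g⁻¹ * s⁻¹) := by rw [← hg']
      _ = s * (k * g⁻¹) * s⁻¹ := by group
      _ = s * (g⁻¹ * k) * s⁻¹ := by rw [hk']
      _ = (s * g⁻¹ * s⁻¹) * (s * k * s⁻¹) := by group
      _ = g * (s * k * s⁻¹) := by rw [← hg']
  have hfree : ∀ k ∈ cent g, s * k * s⁻¹ = k → k = 1 := fun k hk he' => by
    obtain ⟨c, hc⟩ := X.invol_one hs1 hss
    by_contra hk1
    refine X.cent_fpf hg hk hk1 c ((hc _).1 ?_)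
    rw [smul_smul, mul_inv_eq_iff_eq_mul.1 he', mul_smul, (hc c).2 rfl]
  let σ : cent g → cent g := fun x => x⁻¹ * ⟨s * x * s⁻¹, hmem _ x.2⟩
  have hinj : Function.Injective σ := by
    intro x y hxy
    have h1 : (x : G)⁻¹ * (s * x * s⁻¹) = (y : G)⁻¹ * (s * y * s⁻¹) := congrArg Subtype.val hxy
    refine Subtype.ext (mul_inv_eq_one.1 (hfree _ (mul_mem y.2 (inv_mem x.2)) ?_)).symm
    calc s * ((y : G) * (x : G)⁻¹) * s⁻¹
        = (y : G) * ((y : G)⁻¹ * (s * y * s⁻¹)) * (s * x * s⁻¹)⁻¹ := by group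
      _ = (y : G) * ((x : G)⁻¹ * (s * x * s⁻¹)) * (s * x * s⁻¹)⁻¹ := by rw [h1]
      _ = (y : G) * (x : G)⁻¹ := by group
  obtain ⟨x, hx⟩ := (Finite.injective_iff_surjective.1 hinj) ⟨k, hk⟩
  have h1 : (x : G)⁻¹ * (s * x * s⁻¹) = k := congrArg Subtype.val hx
  have hsi : s⁻¹ = s := inv_eq_of_mul_eq_one_right hss
  rw [← h1, mul_inv_rev, inv_inv, hsi]
  calc s * ((x : G)⁻¹ * (s * x * s)) * s = s * (x : G)⁻¹ * s * x * (s * s) := by group
    _ = (s * x * s)⁻¹ * x := by rw [hss, mul_one, mul_inv_rev, mul_inv_rev, hsi]; group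

theorem cent_comm {g : G} (hg : Real' Ω g) : ∀ x ∈ cent g, ∀ y ∈ cent g, x * y = y * x := by
  obtain ⟨hfpf, s, hs1, hss, hsg⟩ := hg
  intro x hx y hy
  have h1 := X.inverted hfpf hs1 hss hsg (mul_mem hx hy)
  rw [show s * (x * y) * s⁻¹ = (s * x * s⁻¹) * (s * y * s⁻¹) by group, X.inverted hfpf hs1 hss hsg hx,
    X.inverted hfpf hs1 hss hsg hy, mul_inv_rev] at h1
  calc x * y = (y⁻¹ * x⁻¹)⁻¹ := by group
    _ = y * x := by rw [← h1]; group

theorem cent_same {g : G} (hg : Real' Ω g) {y : G} (hy : y ∈ cent g) (hy1 : y ≠ 1) :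
    Real' Ω y ∧ cent y = cent g := by
  obtain ⟨hfpf, s, hs1, hss, hsg⟩ := id hg
  have hry : Real' Ω y := ⟨X.cent_fpf hfpf hy hy1, s, hs1, hss, X.inverted hfpf hs1 hss hsg hy⟩
  refine ⟨hry, le_antisymm (fun k hk => ?_) fun k hk => mem_cent.2 (X.cent_comm hg k hk y hy)⟩
  refine mem_cent.2 (X.cent_comm hry k hk g ?_)
  exact mem_cent.2 (mem_cent.1 hy).symm

theorem self_mem {g : G} : g ∈ cent g := mem_cent.2 rfl

theorem three_le_cent {g : G} (hg : ∀ c : Ω, g • c ≠ c) : 3 ≤ Nat.card (cent g) := by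
  haveI : Nontrivial (cent g) := ⟨⟨g, mem_cent.2 rfl⟩, 1, fun e' => (X.sq_ne hg).1 (congrArg Subtype.val e')⟩
  have := Finite.one_lt_card (α := cent g)
  obtain ⟨j, hj⟩ := X.cent_odd hg
  omega

/-- The centraliser acts semiregularly on the points. -/
theorem cent_dvd {g : G} (hg : ∀ c : Ω, g • c ≠ c) : Nat.card (cent g) ∣ h + 1 := by
  rw [← X.card, ← Nat.card_eq_fintype_card]
  refine Cfsg.Agent.Perm.card_dvd_of_free fun k c hk => Subtype.ext ?_
  by_contra hk1
  exact X.cent_fpf hg k.2 hk1 c hk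

/-- A Sylow subgroup meeting the centraliser of a fixed point free real element lies in it. -/
theorem sylow_le {g : G} (hg : Real' Ω g) {r : ℕ} [Fact r.Prime] (P : Sylow r G) {y : G} (hyP : y ∈ P)
    (hy : y ∈ cent g) (hy1 : y ≠ 1) : (P : Subgroup G) ≤ cent g := by
  haveI : Nontrivial (P : Subgroup G) := ⟨⟨y, hyP⟩, 1, fun e' => hy1 (congrArg Subtype.val e')⟩
  haveI := P.2.center_nontrivial
  obtain ⟨⟨z, hz⟩, hz1⟩ := exists_ne (1 : Subgroup.center (P : Subgroup G))
  have hz1' : (z : G) ≠ 1 := fun e' => hz1 (Subtype.ext (Subtype.ext e'))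
  have hcomm : ∀ w ∈ (P : Subgroup G), w * (z : G) = (z : G) * w := fun w hw =>
    congrArg Subtype.val (Subgroup.mem_center_iff.1 hz ⟨w, hw⟩)
  have hzg : (z : G) ∈ cent g := by
    rw [← (X.cent_same hg hy hy1).2]
    exact mem_cent.2 (hcomm y hyP).symm
  rw [← (X.cent_same hg hzg hz1').2]
  exact fun w hw => mem_cent.2 (hcomm w hw)

/-- Fixed point free real elements with centralisers of non-coprime orders have conjugate centralisers. -/
theorem conj_of_not_coprime {g g' : G} (hg : Real' Ω g) (hg' : Real' Ω g')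
    (hnc : ¬ Nat.Coprime (Nat.card (cent g)) (Nat.card (cent g'))) :
    ∃ k : G, (cent g).map (MulAut.conj k).toMonoidHom = cent g' := by
  obtain ⟨r, hr, hr1, hr2⟩ := Nat.Prime.not_coprime_iff_dvd.1 hnc
  haveI := Fact.mk hr
  obtain ⟨⟨y, hy⟩, hyo⟩ := exists_prime_orderOf_dvd_card' r hr1
  obtain ⟨⟨y', hy'⟩, hy'o⟩ := exists_prime_orderOf_dvd_card' r hr2
  have key : ∀ {x : G} {f : G} (hx : x ∈ cent f), orderOf (⟨x, hx⟩ : cent f) = r →
      x ≠ 1 ∧ ∃ P : Sylow r G, x ∈ P := by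
    intro x f hx ho
    rw [← Subgroup.orderOf_coe] at ho
    refine ⟨fun e' => hr.one_lt.ne (by rw [← ho]; simp [e']), ?_⟩
    obtain ⟨P, hP⟩ := (IsPGroup.of_card (n := 1) (by rw [Nat.card_zpowers, ho, pow_one]) :
      IsPGroup r (Subgroup.zpowers x)).exists_le_sylow
    exact ⟨P, hP (Subgroup.mem_zpowers x)⟩
  obtain ⟨hy1, P, hyP⟩ := key hy hyo
  obtain ⟨hy'1, P', hy'P⟩ := key hy' hy'o
  obtain ⟨k, hk⟩ := MulAction.exists_smul_eq G P P'
  refine ⟨k, ?_⟩
  have hle := X.sylow_le hg P hyP hy hy1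
  have hle' := X.sylow_le hg' P' hy'P hy' hy'1
  have hk' : k * y * k⁻¹ ∈ cent g' := by
    apply hle'
    rw [← hk, Sylow.coe_subgroup_smul]
    exact Subgroup.smul_mem_pointwise_smul y (MulAut.conj k) (P : Subgroup G) hyP
  have hk1 : k * y * k⁻¹ ≠ 1 := by rw [ne_eq, conj_eq_one_iff]; exact hy1
  rw [← (X.cent_same hg hy hy1).2, ← (X.cent_same hg' hk' hk1).2]
  ext w
  rw [Subgroup.mem_map_equiv, mem_cent, mem_cent, MulAut.conj_symm_apply]
  constructor
  · intro hw
    calc w * (k * y * k⁻¹) = k * (k⁻¹ * w * k * y) * k⁻¹ := by group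
      _ = _ := by rw [hw]; group
  · intro hw
    calc k⁻¹ * w * k * y = k⁻¹ * (w * (k * y * k⁻¹)) * k := by group
      _ = _ := by rw [hw]; group

variable (hh : h = (e + 1) ^ 2)
include hh

/-- Two square roots of an involution differ by an element of order at most two. -/
theorem root_diff_kernel {t x y : G} (ht : t ∈ U) (ht1 : t ≠ 1) (htt : t * t = 1) (hx : x * x = t) (hy : y * y = t) :
    (x⁻¹ * y) * (x⁻¹ * y) = 1 := by
  classical
  haveI := Fintype.ofFinite U
  have ht' : (⟨t, ht⟩ : U) ≠ 1 := fun e' => ht1 (congrArg Subtype.val e')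
  have hR : (Finset.univ.filter fun v : G => v * v = t).card = e + 1 := by
    have h1 := X.roots_in (z := ⟨t, ht⟩) ht' (Subtype.ext htt)
    have h2 : e * (Finset.univ.filter fun v : G => v * v = t).card = e * (e + 1) := by
      change e * (Finset.univ.filter fun v : G => v * v = t).card + (e + 1) = h at h1
      rw [hh] at h1
      linarith
    exact Nat.eq_of_mul_eq_mul_left X.toCtx.e_pos h2
  have hxU : x ∈ U := X.root_mem (u := ⟨t, ht⟩) ht' hx
  have hsub : ((Finset.univ.filter fun u : U => u * u = 1).image fun u : U => x * (u : G)) ⊆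
      Finset.univ.filter fun v : G => v * v = t := by
    intro v hv
    obtain ⟨u, hu, rfl⟩ := Finset.mem_image.1 hv
    rw [Finset.mem_filter] at hu ⊢
    refine ⟨Finset.mem_univ _, ?_⟩
    have hc : x * (u : G) = (u : G) * x :=
      congrArg Subtype.val (Subgroup.mem_center_iff.1 ((X.center_iff u).2 hu.2) ⟨x, hxU⟩)
    calc x * (u : G) * (x * u) = x * ((u : G) * x) * u := by group
      _ = x * x * ((u : G) * u) := by rw [← hc]; group
      _ = t := by rw [hx, show (u : G) * u = 1 from congrArg Subtype.val hu.2, mul_one]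
  have heq := Finset.eq_of_subset_of_card_le hsub (by
    rw [hR, Finset.card_image_of_injective _ fun u u' huu => Subtype.ext (mul_left_cancel huu),
      X.card_center_filter])
  have hy' : y ∈ Finset.univ.filter fun v : G => v * v = t := by simp [hy]
  rw [← heq] at hy'
  obtain ⟨u, hu, rfl⟩ := Finset.mem_image.1 hy'
  rw [inv_mul_cancel_left]
  exact congrArg Subtype.val (Finset.mem_filter.1 hu).2

theorem pow_four_kernel (u : U) : u ^ 4 = 1 := by
  have h1 := (X.center_iff _).1 (X.sq_center u)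
  rw [show (4 : ℕ) = 2 * 2 from rfl, pow_mul, sq, sq]
  exact h1

/-- The centraliser of an involution: exponent four, and roots of the involution. -/
theorem invol_cent {s : G} (hs1 : s ≠ 1) (hss : s * s = 1) :
    (∀ w : G, w * s = s * w → (w * w) * (w * w) = 1) ∧
      ∀ x y : G, x * x = s → y * y = s → (x⁻¹ * y) * (x⁻¹ * y) = 1 := by
  obtain ⟨c, hc⟩ := X.invol_one hs1 hss
  obtain ⟨k, hk⟩ := X.exists_smul c
  have hta : (k⁻¹ * s * k) • a = a := by
    rw [mul_smul, mul_smul, hk, (hc c).2 rfl, inv_smul_eq_iff, hk]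
  have ht1 : k⁻¹ * s * k ≠ 1 := fun e' => hs1 (by
    calc s = k * (k⁻¹ * s * k) * k⁻¹ := by group
      _ = 1 := by rw [e']; group)
  have htt : k⁻¹ * s * k * (k⁻¹ * s * k) = 1 := by
    rw [show k⁻¹ * s * k * (k⁻¹ * s * k) = k⁻¹ * (s * s) * k by group, hss]; group
  have htU := X.invol_mem ht1 htt hta
  constructor
  · intro w hw
    have hwU : k⁻¹ * w * k ∈ U := X.toCtx.centralizer_le htU ht1 (by
      calc k⁻¹ * w * k * (k⁻¹ * s * k) = k⁻¹ * (w * s) * k := by group
        _ = _ := by rw [hw]; group)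
    have h4 := congrArg Subtype.val (X.pow_four_kernel hh ⟨_, hwU⟩)
    rw [SubmonoidClass.coe_pow, OneMemClass.coe_one] at h4
    calc w * w * (w * w) = k * ((k⁻¹ * w * k) * (k⁻¹ * w * k) * ((k⁻¹ * w * k) * (k⁻¹ * w * k))) * k⁻¹ := by group
      _ = k * (k⁻¹ * w * k) ^ 4 * k⁻¹ := by simp only [pow_succ, pow_zero, one_mul, mul_assoc]
      _ = 1 := by rw [h4]; group
  · intro x y hx hy
    have h1 := X.root_diff_kernel hh htU ht1 htt (x := k⁻¹ * x * k) (y := k⁻¹ * y * k)
      (by rw [show k⁻¹ * x * k * (k⁻¹ * x * k) = k⁻¹ * (x * x) * k by group, hx])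
      (by rw [show k⁻¹ * y * k * (k⁻¹ * y * k) = k⁻¹ * (y * y) * k by group, hy])
    calc x⁻¹ * y * (x⁻¹ * y) = k * ((k⁻¹ * x * k)⁻¹ * (k⁻¹ * y * k) * ((k⁻¹ * x * k)⁻¹ * (k⁻¹ * y * k))) * k⁻¹ := by
          group
      _ = 1 := by rw [h1]; group

/-- The normaliser of a torus: index two, or index four dividing the order less one. -/
theorem norm_index {g : G} (hg : Real' Ω g) : ∃ w : ℕ, Nat.card (Subgroup.normalizer (cent g : Set G)) =
    Nat.card (cent g) * w ∧ (w = 2 ∨ (w = 4 ∧ 4 ∣ Nat.card (cent g) - 1)) := by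
  classical
  obtain ⟨hfpf, s, hs1, hss, hsg⟩ := id hg
  set A := cent g with hA
  set N := Subgroup.normalizer (A : Set G) with hN
  set W := N ⊓ cent s with hW
  have hsi : s⁻¹ = s := inv_eq_of_mul_eq_one_right hss
  have hinv : ∀ k ∈ A, s * k * s⁻¹ = k⁻¹ := fun k hk => X.inverted hfpf hs1 hss hsg hk
  have hsN : s ∈ N := Subgroup.mem_normalizer_fintype fun k hk => by rw [hinv k hk]; exact inv_mem hk
  have hAN : A ≤ N := Subgroup.le_normalizer
  have hsW : s ∈ W := ⟨hsN, mem_cent.2 rfl⟩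
  have hAs : ∀ k ∈ A, k * s = s * k → k = 1 := fun k hk hks => by
    refine X.cent_no_invol hfpf hk ?_
    have h1 := hinv k hk
    rw [← hks, mul_inv_cancel_right] at h1
    rw [mul_eq_one_iff_eq_inv, ← h1]
  -- an involution of `W` is `s`
  have huniq : ∀ t ∈ W, t ≠ 1 → t * t = 1 → t = s := by
    intro t ht ht1 htt
    have htmem : t * g * t⁻¹ ∈ A := (Subgroup.mem_normalizer_iff.1 ht.1 g).1 (mem_cent.2 rfl)
    have hfree : ∀ k ∈ A, t * k * t⁻¹ = k → k = 1 := fun k hk he' => by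
      obtain ⟨c, hc⟩ := X.invol_one ht1 htt
      by_contra hk1
      refine X.cent_fpf hfpf hk hk1 c ((hc _).1 ?_)
      rw [smul_smul, mul_inv_eq_iff_eq_mul.1 he', mul_smul, (hc c).2 rfl]
    -- `t` inverts `g`
    have hti : t⁻¹ = t := inv_eq_of_mul_eq_one_right htt
    have hprod : t * (g * (t * g * t⁻¹)) * t⁻¹ = g * (t * g * t⁻¹) := by
      calc t * (g * (t * g * t⁻¹)) * t⁻¹ = (t * g * t⁻¹) * (t * t) * g * (t * t)⁻¹ := by group
        _ = g * (t * g * t⁻¹) := by rw [htt, inv_one, mul_one, mul_one, X.cent_comm hg _ htmem g (mem_cent.2 rfl)]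
    have htg : t * g * t⁻¹ = g⁻¹ :=
      eq_inv_of_mul_eq_one_right (hfree _ (mul_mem (mem_cent.2 rfl) htmem) hprod)
    have hts : t * s ∈ A := by
      rw [hA, mem_cent]
      have e1 : s * g = g⁻¹ * s := mul_inv_eq_iff_eq_mul.1 hsg
      have e2 : t * g⁻¹ = g * t := by
        have := congrArg Inv.inv htg
        rw [inv_inv, mul_inv_rev, mul_inv_rev, inv_inv, ← mul_assoc] at this
        exact mul_inv_eq_iff_eq_mul.1 this
      rw [mul_assoc, e1, ← mul_assoc, e2, mul_assoc]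
    have hcomm : t * s = s * t := mem_cent.1 ht.2
    have : t * s = 1 := hAs _ hts (by
      rw [mul_assoc, hss, mul_one, ← mul_assoc, ← hcomm, mul_assoc, hss, mul_one])
    rw [mul_eq_one_iff_eq_inv.1 this, hsi]
  have hexp := (X.invol_cent hh hs1 hss)
  have hroot : ∀ x ∈ W, x ≠ 1 → x ≠ s → x * x = s := fun x hx hx1 hxs => by
    refine huniq _ (mul_mem hx hx) (fun h0 => hxs (huniq x hx hx1 h0)) (hexp.1 x (mem_cent.1 hx.2))
  -- the order of `W`
  have hWfour : Nat.card W ≤ 4 ∧ ∀ x ∈ W, x ≠ 1 → x ≠ s → ∀ y ∈ W, y = 1 ∨ y = s ∨ y = x ∨ y = x * s := by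
    have key : ∀ x ∈ W, x ≠ 1 → x ≠ s → ∀ y ∈ W, y = 1 ∨ y = s ∨ y = x ∨ y = x * s := by
      intro x hx hx1 hxs y hy
      by_cases hy1 : y = 1
      · exact Or.inl hy1
      by_cases hys : y = s
      · exact Or.inr (Or.inl hys)
      have hd := hexp.2 x y (hroot x hx hx1 hxs) (hroot y hy hy1 hys)
      by_cases hz : x⁻¹ * y = 1
      · exact Or.inr (Or.inr (Or.inl (inv_mul_eq_one.1 hz).symm))
      · have := huniq _ (mul_mem (inv_mem hx) hy) hz hd
        exact Or.inr (Or.inr (Or.inr (inv_mul_eq_iff_eq_mul.1 this)))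
    refine ⟨?_, key⟩
    by_cases hex : ∃ x ∈ W, x ≠ 1 ∧ x ≠ s
    · obtain ⟨x, hx, hx1, hxs⟩ := hex
      haveI := Fintype.ofFinite W
      rw [Nat.card_eq_fintype_card, ← Finset.card_univ,
        ← Finset.card_image_of_injective _ Subtype.val_injective]
      refine (Finset.card_le_card (t := {1, s, x, x * s}) fun y hy => ?_).trans Finset.card_le_four
      obtain ⟨y, -, rfl⟩ := Finset.mem_image.1 hy
      simpa using key x hx hx1 hxs y y.2
    · push Not at hex
      haveI := Fintype.ofFinite W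
      rw [Nat.card_eq_fintype_card, ← Finset.card_univ,
        ← Finset.card_image_of_injective _ Subtype.val_injective]
      refine le_trans ((Finset.card_le_card (t := {1, s}) fun y hy => ?_).trans Finset.card_le_two) (by norm_num)
      obtain ⟨y, -, rfl⟩ := Finset.mem_image.1 hy
      rw [Finset.mem_insert, Finset.mem_singleton]
      exact or_iff_not_imp_left.2 (hex y y.2)
  have hWev : 2 ∣ Nat.card W := by
    have h1 : orderOf (⟨s, hsW⟩ : W) = 2 := by
      rw [← Subgroup.orderOf_coe]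
      haveI : Fact (Nat.Prime 2) := ⟨Nat.prime_two⟩
      exact orderOf_eq_prime (by rw [sq, hss]) hs1
    rw [← h1]
    exact orderOf_dvd_natCard _
  have hWpos : 0 < Nat.card W := Nat.card_pos
  -- the factorisation of the normaliser
  have hbij : Function.Bijective fun p : A × W => (⟨(p.1 : G) * p.2, mul_mem (hAN p.1.2) p.2.2.1⟩ : N) := by
    refine ⟨fun p p' hpp => ?_, fun n => ?_⟩
    · have h1 : (p.1 : G) * p.2 = p'.1 * p'.2 := congrArg Subtype.val hpp
      have h2 : (p'.1 : G)⁻¹ * p.1 = p'.2 * (p.2 : G)⁻¹ := by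
        rw [inv_mul_eq_iff_eq_mul, ← mul_assoc, ← h1, mul_inv_cancel_right]
      have h3 : (p'.1 : G)⁻¹ * p.1 = 1 := hAs _ (mul_mem (inv_mem p'.1.2) p.1.2) (by
        rw [h2]
        exact mem_cent.1 (mul_mem p'.2.2.2 (inv_mem p.2.2.2)))
      have h4 : (p'.1 : G) = p.1 := inv_mul_eq_one.1 h3
      rw [← h4] at h1
      exact Prod.ext (Subtype.ext h4.symm) (Subtype.ext (mul_left_cancel h1))
    · have hjA : (n : G) * s * (n : G)⁻¹ * s⁻¹ ∈ A := by
        have hn : ∀ k ∈ A, (n : G)⁻¹ * k * n ∈ A := fun k hk => by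
          have := (Subgroup.mem_normalizer_iff.1 (inv_mem n.2) k).1 hk
          rwa [inv_inv] at this
        have e1 : ∀ k ∈ A, (n : G) * s * (n : G)⁻¹ * k * ((n : G) * s * (n : G)⁻¹)⁻¹ = k⁻¹ := fun k hk => by
          calc (n : G) * s * (n : G)⁻¹ * k * ((n : G) * s * (n : G)⁻¹)⁻¹
              = (n : G) * (s * ((n : G)⁻¹ * k * n) * s⁻¹) * (n : G)⁻¹ := by group
            _ = k⁻¹ := by rw [hinv _ (hn k hk)]; group
        rw [hA, mem_cent]
        have e2 := e1 g⁻¹ (inv_mem (mem_cent.2 rfl))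
        rw [inv_inv, mul_inv_eq_iff_eq_mul] at e2
        have e3 : s⁻¹ * g = g⁻¹ * s⁻¹ := by rw [hsi]; exact mul_inv_eq_iff_eq_mul.1 hsg
        rw [mul_assoc _ s⁻¹ g, e3, ← mul_assoc, e2, mul_assoc]
      -- a square root
      obtain ⟨⟨k, hk⟩, hk'⟩ := (powCoprime (G := A) (n := 2)
        (Nat.prime_two.coprime_iff_not_dvd.2 (X.cent_odd hfpf).not_two_dvd_nat).symm).surjective ⟨_, hjA⟩
      have hk2 : k * k = (n : G) * s * (n : G)⁻¹ * s⁻¹ := by
        have := congrArg Subtype.val hk'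
        simpa [powCoprime, sq] using this
      have hks : k * s * k⁻¹ = (n : G) * s * (n : G)⁻¹ := by
        have h1 := hinv _ (inv_mem hk)
        rw [inv_inv, mul_inv_eq_iff_eq_mul] at h1
        rw [mul_assoc, h1, ← mul_assoc, hk2, inv_mul_cancel_right]
      refine ⟨(⟨k, hk⟩, ⟨k⁻¹ * n, mul_mem (hAN (inv_mem hk)) n.2, ?_⟩), Subtype.ext (mul_inv_cancel_left k (n : G))⟩
      show k⁻¹ * (n : G) ∈ cent s
      rw [mem_cent]
      calc k⁻¹ * (n : G) * s = k⁻¹ * ((n : G) * s * (n : G)⁻¹) * n := by group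
        _ = k⁻¹ * (k * s * k⁻¹) * n := by rw [hks]
        _ = s * (k⁻¹ * n) := by group
  refine ⟨Nat.card W, by rw [← Nat.card_eq_of_bijective _ hbij, Nat.card_prod], ?_⟩
  rcases (show Nat.card W = 2 ∨ Nat.card W = 4 by omega) with h2' | h4
  · exact Or.inl h2'
  refine Or.inr ⟨h4, ?_⟩
  -- an element of order four acts freely on the torus
  obtain ⟨x, hx, hx1, hxs⟩ : ∃ x ∈ W, x ≠ 1 ∧ x ≠ s := by
    by_contra hno
    push Not at hno
    haveI := Fintype.ofFinite W
    have : Nat.card W ≤ 2 := by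
      rw [Nat.card_eq_fintype_card, ← Finset.card_univ,
        ← Finset.card_image_of_injective _ Subtype.val_injective]
      refine (Finset.card_le_card (t := {1, s}) fun y hy => ?_).trans Finset.card_le_two
      obtain ⟨y, -, rfl⟩ := Finset.mem_image.1 hy
      rw [Finset.mem_insert, Finset.mem_singleton]
      exact or_iff_not_imp_left.2 (hno y y.2)
    omega
  have hmemW : ∀ (w : W) (k : G), k ∈ A → (w : G) * k * (w : G)⁻¹ ∈ A := fun w k hk =>
    (Subgroup.mem_normalizer_iff.1 w.2.1 k).1 hk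
  letI : MulAction W {k : A // k ≠ 1} :=
    { smul := fun w k => ⟨⟨(w : G) * (k : A) * (w : G)⁻¹, hmemW w _ (k : A).2⟩, fun e' => k.2 (Subtype.ext (by
        have h1 : (w : G) * ((k : A) : G) * (w : G)⁻¹ = 1 := congrArg Subtype.val e'
        exact conj_eq_one_iff.1 h1))⟩
      one_smul := fun k => Subtype.ext (Subtype.ext (show ((1 : W) : G) * _ * ((1 : W) : G)⁻¹ = _ by simp))
      mul_smul := fun w w' k => Subtype.ext (Subtype.ext
        (show ((w * w' : W) : G) * _ * ((w * w' : W) : G)⁻¹ = (w : G) * ((w' : G) * _ * (w' : G)⁻¹) * (w : G)⁻¹ by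
          simp [mul_assoc])) }
  have hdvd := Cfsg.Agent.Perm.card_dvd_of_free (A := W) (X := {k : A // k ≠ 1}) fun w k hwk => by
    have h1 : (w : G) * ((k : A) : G) * (w : G)⁻¹ = (k : A) := congrArg (fun z : {k : A // k ≠ 1} => ((z : A) : G)) hwk
    by_contra hw
    have hs' : s * ((k : A) : G) * s⁻¹ = (k : A) := by
      by_cases hws : (w : G) = s
      · rw [← hws]; exact h1
      · rw [← hroot w w.2 (fun e' => hw (Subtype.ext e')) hws]
        calc (w : G) * w * ((k : A) : G) * ((w : G) * w)⁻¹ = (w : G) * ((w : G) * (k : A) * (w : G)⁻¹) * (w : G)⁻¹ := by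
              group
          _ = _ := by rw [h1, h1]
    exact k.2 (Subtype.ext (hAs _ (k : A).2 (by rw [mul_inv_eq_iff_eq_mul.1 hs'])))
  haveI := Fintype.ofFinite A
  rwa [h4, Nat.card_eq_fintype_card (α := {k : A // k ≠ 1}), Fintype.card_subtype_compl, Fintype.card_subtype_eq,
    ← Nat.card_eq_fintype_card (α := A)] at hdvd

end SCtx

end Cfsg.Agent.Lie.ZassenhausSuzuki
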