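import Mathlib
import Cfsg.Agent.Lib.Lie.ZassenhausSuzuki.Torus
import Cfsg.Agent.Lib.Lie.ZassenhausSuzuki.Arith

/-!
Counting pairs of involutions with fixed point free product: the centre of the kernel has order an odd power
of two when the kernel has order the square of it.
-/

set_option autoImplicit false
set_option linter.unusedSectionVars false
set_option linter.style.haveILetI false

namespace Cfsg.Agent.Lie.ZassenhausSuzuki

open MulAction
open Cfsg.Agent.Lie.ZassenhausCount

universe u v

variable {G : Type u} {Ω : Type v} [Group G] [Fintype G] [MulAction G Ω] [Fintype Ω] [FaithfulSMul G Ω]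
  {U : Subgroup G} {a b : Ω} {h e : ℕ}

theorem cent_map (g k : G) : (cent g).map (MulAut.conj k).toMonoidHom = cent (k * g * k⁻¹) := by
  ext w
  rw [Subgroup.mem_map_equiv, mem_cent, mem_cent, MulAut.conj_symm_apply]
  constructor
  · intro hw
    calc w * (k * g * k⁻¹) = k * (k⁻¹ * w * k * g) * k⁻¹ := by group
      _ = _ := by rw [hw]; group
  · intro hw
    calc k⁻¹ * w * k * g = k⁻¹ * (w * (k * g * k⁻¹)) * k := by group
      _ = _ := by rw [hw]; group

theorem real_conj {g : G} (hg : Real' Ω g) (k : G) : Real' Ω (k * g * k⁻¹) := by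
  obtain ⟨hfpf, s, hs1, hss, hsg⟩ := hg
  refine ⟨fun c hc => hfpf (k⁻¹ • c) ?_, k * s * k⁻¹, by rwa [ne_eq, conj_eq_one_iff], ?_, ?_⟩
  · rw [mul_smul, mul_smul] at hc
    exact eq_inv_smul_iff.2 hc
  · rw [show k * s * k⁻¹ * (k * s * k⁻¹) = k * (s * s) * k⁻¹ by group, hss]; group
  · rw [show k * s * k⁻¹ * (k * g * k⁻¹) * (k * s * k⁻¹)⁻¹ = k * (s * g * s⁻¹) * k⁻¹ by group, hsg]; group

theorem map_comp_conj (A : Subgroup G) (k l : G) :
    (A.map (MulAut.conj k).toMonoidHom).map (MulAut.conj l).toMonoidHom = A.map (MulAut.conj (l * k)).toMonoidHom := by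
  rw [Subgroup.map_map]
  congr 1
  ext x
  simp [mul_assoc]

open scoped Classical in
/-- The conjugates of a subgroup. -/
noncomputable def orb (A : Subgroup G) : Finset (Subgroup G) :=
  Finset.univ.image fun k : G => A.map (MulAut.conj k).toMonoidHom

theorem orb_map (A : Subgroup G) (k : G) : orb (A.map (MulAut.conj k).toMonoidHom) = orb A := by
  classical
  ext B
  simp only [orb, Finset.mem_image, Finset.mem_univ, true_and, map_comp_conj]
  exact ⟨fun ⟨l, hl⟩ => ⟨l * k, hl⟩, fun ⟨l, hl⟩ => ⟨l * k⁻¹, by rwa [inv_mul_cancel_right]⟩⟩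

theorem card_orb (A : Subgroup G) :
    (orb A).card * Nat.card (Subgroup.normalizer (A : Set G)) = Nat.card G := by
  classical
  set N := Subgroup.normalizer (A : Set G) with hN
  have hmem : ∀ k : G, k ∈ N ↔ A.map (MulAut.conj k).toMonoidHom = A := fun k => by
    rw [hN, Subgroup.mem_normalizer_iff]
    constructor
    · intro hk
      ext w
      rw [Subgroup.mem_map_equiv, MulAut.conj_symm_apply, hk]
      rw [show k * (k⁻¹ * w * k) * k⁻¹ = w by group]
    · intro hk w
      conv_rhs => rw [← hk, Subgroup.mem_map_equiv, MulAut.conj_symm_apply]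
      rw [show k⁻¹ * (k * w * k⁻¹) * k = w by group]
  rw [Nat.card_eq_fintype_card (α := G), ← Finset.card_univ (α := G),
    Finset.card_eq_sum_card_fiberwise (s := (Finset.univ : Finset G)) (t := orb A)
      (f := fun k : G => A.map (MulAut.conj k).toMonoidHom) (fun k _ => by simp [orb]),
    Finset.sum_congr rfl (g := fun _ => Nat.card N) fun B hB => ?_, Finset.sum_const, smul_eq_mul]
  obtain ⟨k₀, -, rfl⟩ := Finset.mem_image.1 hB
  rw [Nat.card_eq_fintype_card, Fintype.card_subtype]
  refine Finset.card_equiv (Equiv.mulLeft k₀⁻¹) fun k => ?_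
  simp only [Finset.mem_filter, Finset.mem_univ, true_and, Equiv.coe_mulLeft, hmem, ← map_comp_conj]
  constructor
  · intro hk
    rw [hk, map_comp_conj, inv_mul_cancel]
    ext w
    simp
  · intro hk
    conv_rhs => rw [← hk]
    rw [map_comp_conj, map_comp_conj, mul_inv_cancel, one_mul]

namespace SCtx

variable (X : SCtx G Ω U a b h e)
include X

open scoped Classical in
theorem pairs_at {x : G} (hx1 : x ≠ 1) (hxx : x * x = 1) :
    2 * (invols.filter fun y : G => ∀ d : Ω, (x * y) • d ≠ d).card = h * (e + 1) := by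
  obtain ⟨c, hc⟩ := X.invol_one hx1 hxx
  have hxc : x • c = c := (hc c).2 rfl
  have hfix : ∀ (y : G) (d : Ω), (x * y) • d = d ↔ y • d = x • d := fun y d => by
    rw [mul_smul]
    constructor
    · intro h1
      calc y • d = x • x • y • d := by rw [smul_smul x x, hxx, one_smul]
        _ = x • d := by rw [h1]
    · intro h1
      rw [h1, smul_smul, hxx, one_smul]
  have hxd : ∀ d : Ω, d ≠ c → x • d ≠ d := fun d hd e' => hd ((hc d).1 e')
  -- the involutions moving `c` whose product with `x` has a fixed point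
  set B := invols.filter fun y : G => y • c ≠ c ∧ ∃ d : Ω, y • d = x • d with hB
  have hsplit : (invols.filter fun y : G => ∀ d : Ω, (x * y) • d ≠ d).card + (B.card +
      (invols.filter fun y : G => y • c = c).card) = (invols : Finset G).card := by
    rw [← Finset.card_filter_add_card_filter_not (s := (invols : Finset G)) (fun y => ∀ d : Ω, (x * y) • d ≠ d),
      ← Finset.card_filter_add_card_filter_not (s := (invols : Finset G).filter fun y => ¬ ∀ d : Ω, (x * y) • d ≠ d)
        (fun y => y • c ≠ c), Finset.filter_filter, Finset.filter_filter]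
    congr 1
    congr 1
    · refine congrArg Finset.card (Finset.filter_congr fun y _ => ?_)
      simp only [ne_eq, not_forall, not_not, hfix]
      exact and_comm
    · refine congrArg Finset.card (Finset.filter_congr fun y _ => ?_)
      simp only [ne_eq, not_forall, not_not, hfix]
      exact ⟨fun h1 => ⟨⟨c, by rw [h1, hxc]⟩, h1⟩, fun h1 => h1.2⟩
  have h2B : 2 * B.card = h * (e - 1) := by
    have hrow : ∀ y ∈ B, ((Finset.univ.erase c).filter fun d : Ω => y • d = x • d).card = 2 := by
      intro y hy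
      simp only [hB, invols, Finset.mem_filter, Finset.mem_univ, true_and] at hy
      obtain ⟨⟨hy1, hyy⟩, hyc, d, hd⟩ := hy
      have hdc : d ≠ c := fun e' => hyc (by rw [← e', hd, e', hxc])
      have hxy : x * y ≠ 1 := fun e' => hyc (by
        rw [show y = x by rw [← inv_eq_of_mul_eq_one_right e', inv_eq_of_mul_eq_one_right hxx]]; exact hxc)
      refine le_antisymm ((Finset.card_le_card fun d' hd' => ?_).trans (nfix_le (Ω := Ω) X.h3 hxy)) ?_
      · rw [Finset.mem_filter] at hd' ⊢
        exact ⟨Finset.mem_univ _, (hfix y d').2 hd'.2⟩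
      · rw [← Finset.card_pair (hxd d hdc).symm]
        refine Finset.card_le_card fun d' hd' => ?_
        simp only [Finset.mem_insert, Finset.mem_singleton] at hd'
        simp only [Finset.mem_filter, Finset.mem_erase, Finset.mem_univ, and_true]
        rcases hd' with rfl | rfl
        · exact ⟨hdc, hd⟩
        · refine ⟨fun e' => hdc ?_, ?_⟩
          · calc d = x • x • d := by rw [smul_smul, hxx, one_smul]
              _ = c := by rw [e', hxc]
          · rw [smul_smul x x, hxx, one_smul, ← hd, smul_smul, hyy, one_smul]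
    have hcol : ∀ d ∈ Finset.univ.erase c, (B.filter fun y : G => y • d = x • d).card = e - 1 := by
      intro d hd
      have hdc : d ≠ c := (Finset.mem_erase.1 hd).1
      rw [show (B.filter fun y : G => y • d = x • d) = (invols.filter fun y : G => y • d = x • d).erase x from ?_,
        Finset.card_erase_of_mem (by simp [invols, hx1, hxx]), card_swap X.toOddCtx (hxd d hdc).symm]
      ext y
      simp only [hB, Finset.mem_filter, Finset.mem_erase]
      constructor
      · rintro ⟨⟨hy, hyc, -⟩, hyd⟩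
        exact ⟨fun e' => hyc (e' ▸ hxc), hy, hyd⟩
      · rintro ⟨hne, hy, hyd⟩
        refine ⟨⟨hy, fun hyc => hne ?_, d, hyd⟩, hyd⟩
        simp only [invols, Finset.mem_filter, Finset.mem_univ, true_and] at hy
        have h1 := X.h3 (x * y) c d (x • d) (Ne.symm hdc) (hxd d hdc).symm
          (fun e' => hdc (MulAction.injective x (e'.symm.trans hxc.symm))) ((hfix y c).2 (by rw [hyc, hxc]))
          ((hfix y d).2 hyd) ((hfix y _).2 (by rw [← hyd, smul_smul, hy.2, one_smul, hyd, smul_smul, hxx, one_smul]))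
        rw [← inv_eq_of_mul_eq_one_right h1, inv_eq_of_mul_eq_one_right hxx]
    have hsum := Finset.sum_card_bipartiteAbove_eq_sum_card_bipartiteBelow (fun (y : G) (d : Ω) => y • d = x • d)
      (s := B) (t := Finset.univ.erase c)
    have h1 : ∑ y ∈ B, ((Finset.univ.erase c).filter fun d : Ω => y • d = x • d).card = B.card * 2 := by
      rw [Finset.sum_congr rfl hrow, Finset.sum_const, smul_eq_mul]
    have h2 : ∑ d ∈ Finset.univ.erase c, (B.filter fun y : G => y • d = x • d).card = h * (e - 1) := by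
      rw [Finset.sum_congr rfl hcol, Finset.sum_const, Finset.card_erase_of_mem (Finset.mem_univ _),
        Finset.card_univ, X.card, smul_eq_mul, Nat.add_sub_cancel]
    rw [mul_comm, ← h1, ← h2]
    exact hsum
  rw [X.card_invols_at, X.card_invols_eq] at hsplit
  obtain ⟨j, hj⟩ : ∃ j, e = j + 1 := ⟨e - 1, by have := X.ethree; omega⟩
  subst hj
  simp only [Nat.add_sub_cancel] at h2B
  nlinarith

open scoped Classical in
theorem card_inverters {g : G} (hg : Real' Ω g) :
    (invols.filter fun x : G => x * g * x⁻¹ = g⁻¹).card = Nat.card (cent g) := by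
  obtain ⟨hfpf, s, hs1, hss, hsg⟩ := id hg
  haveI := Fintype.ofFinite (cent g)
  have hsi : s⁻¹ = s := inv_eq_of_mul_eq_one_right hss
  have hinv : ∀ k ∈ cent g, s * k * s⁻¹ = k⁻¹ := fun k hk => X.inverted hfpf hs1 hss hsg hk
  rw [Nat.card_eq_fintype_card, ← Finset.card_univ]
  symm
  refine Finset.card_bij (fun (k : cent g) _ => (k : G) * s) (fun k _ => ?_)
    (fun k _ l _ hkl => Subtype.ext (mul_right_cancel hkl)) fun x hx => ?_
  · simp only [invols, Finset.mem_filter, Finset.mem_univ, true_and]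
    refine ⟨⟨fun h1 => ?_, ?_⟩, ?_⟩
    · have hk : (k : G) = s := by rw [mul_eq_one_iff_eq_inv.1 h1, hsi]
      exact hs1 (X.cent_no_invol hfpf (hk ▸ k.2) hss)
    · have := hinv k k.2
      rw [hsi] at this
      rw [mul_assoc, ← mul_assoc s, this, mul_inv_cancel]
    · calc (k : G) * s * g * ((k : G) * s)⁻¹ = (k : G) * (s * g * s⁻¹) * (k : G)⁻¹ := by group
        _ = g⁻¹ := by rw [hsg, (show Commute (k : G) g from mem_cent.1 k.2).inv_right.eq, mul_inv_cancel_right]
  · simp only [invols, Finset.mem_filter, Finset.mem_univ, true_and] at hx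
    refine ⟨⟨x * s, mem_cent.2 ?_⟩, Finset.mem_univ _, show x * s * s = x by rw [mul_assoc, hss, mul_one]⟩
    have e1 : s * g = g⁻¹ * s := mul_inv_eq_iff_eq_mul.1 hsg
    have e2 : x * g⁻¹ = g * x := by
      have := congrArg Inv.inv hx.2
      rw [inv_inv, mul_inv_rev, mul_inv_rev, inv_inv, ← mul_assoc] at this
      exact mul_inv_eq_iff_eq_mul.1 this
    rw [mul_assoc, e1, ← mul_assoc, e2, mul_assoc]

/-- The centre of the kernel has order an odd power of two. -/
theorem exponent_odd (hh : h = (e + 1) ^ 2) : ∃ n, Odd n ∧ 1 < n ∧ e + 1 = 2 ^ n := by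
  classical
  obtain ⟨n, hn2, hn⟩ := X.exists_pow
  refine ⟨n, ?_, by omega, hn⟩
  have hGcard : Fintype.card G = (h + 1) * h * e := card_group X.toOddCtx
  have hGpos : 0 < Fintype.card G := Fintype.card_pos
  -- fixed point free real elements
  set R := (Finset.univ : Finset G).filter fun g => Real' Ω g with hR
  have hRmem : ∀ g, g ∈ R ↔ Real' Ω g := fun g => by simp [hR]
  have hsum : 2 * ∑ g ∈ R, Nat.card (cent g) = Fintype.card G * (e + 1) := by
    have h1 : ∑ g ∈ R, Nat.card (cent g) = ∑ g ∈ R, (invols.filter fun x : G => x * g * x⁻¹ = g⁻¹).card :=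
      Finset.sum_congr rfl fun g hg => (X.card_inverters ((hRmem g).1 hg)).symm
    have h2 : ∑ g ∈ R, (invols.filter fun x : G => x * g * x⁻¹ = g⁻¹).card =
        ∑ x ∈ (invols : Finset G), (invols.filter fun y : G => ∀ d : Ω, (x * y) • d ≠ d).card := by
      rw [← Finset.card_sigma, ← Finset.card_sigma]
      refine Finset.card_bij' (fun p _ => ⟨p.2, p.2 * p.1⟩) (fun p _ => ⟨p.1 * p.2, p.1⟩) (fun p hp => ?_)
        (fun p hp => ?_) (fun p hp => ?_) (fun p hp => ?_)
      · simp only [Finset.mem_sigma, hRmem, invols, Finset.mem_filter, Finset.mem_univ, true_and] at hp ⊢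
        obtain ⟨hg, ⟨hx1, hxx⟩, hxg⟩ := hp
        refine ⟨⟨hx1, hxx⟩, ⟨fun h1 => ?_, ?_⟩, fun d => ?_⟩
        · have : p.1 = p.2 := by rw [← inv_eq_of_mul_eq_one_right h1, inv_eq_of_mul_eq_one_right hxx]
          exact (X.sq_ne hg.1).2 (by rw [this, hxx])
        · rw [inv_eq_of_mul_eq_one_right hxx] at hxg
          calc p.2 * p.1 * (p.2 * p.1) = (p.2 * p.1 * p.2) * p.1 := by group
            _ = 1 := by rw [hxg, inv_mul_cancel]
        · rw [← mul_assoc, hxx, one_mul]
          exact hg.1 d
      · simp only [Finset.mem_sigma, hRmem, invols, Finset.mem_filter, Finset.mem_univ, true_and] at hp ⊢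
        obtain ⟨⟨hx1, hxx⟩, ⟨hy1, hyy⟩, hd⟩ := hp
        have hinv' : p.1 * (p.1 * p.2) * p.1⁻¹ = (p.1 * p.2)⁻¹ := by
          rw [← mul_assoc, hxx, one_mul, mul_inv_rev, inv_eq_of_mul_eq_one_right hxx, inv_eq_of_mul_eq_one_right hyy]
        exact ⟨⟨hd, p.1, hx1, hxx, hinv'⟩, ⟨hx1, hxx⟩, hinv'⟩
      · simp only [Finset.mem_sigma, hRmem, invols, Finset.mem_filter, Finset.mem_univ, true_and] at hp
        have hxx := hp.2.1.2
        simp only [← mul_assoc, hxx, one_mul]
      · simp only [Finset.mem_sigma, invols, Finset.mem_filter, Finset.mem_univ, true_and] at hp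
        simp only [← mul_assoc, hp.1.2, one_mul]
    have h3 : ∀ x ∈ (invols : Finset G),
        2 * (invols.filter fun y : G => ∀ d : Ω, (x * y) • d ≠ d).card = h * (e + 1) := fun x hx =>
      X.pairs_at (Finset.mem_filter.1 hx).2.1 (Finset.mem_filter.1 hx).2.2
    rw [h1, h2, Finset.mul_sum, Finset.sum_congr rfl h3, Finset.sum_const, smul_eq_mul, X.card_invols_eq, hGcard]
    ring
  have hRle : 2 * R.card < Fintype.card G := by
    obtain ⟨-, -, h0⟩ := card_nfix X.toOddCtx
    have hsub : R.card ≤ (Finset.univ.filter fun g : G => nfix (Ω := Ω) g = 0).card := by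
      refine Finset.card_le_card fun g hg => ?_
      rw [Finset.mem_filter, nfix, Finset.card_eq_zero, Finset.filter_eq_empty_iff]
      exact ⟨Finset.mem_univ _, fun {d} _ => ((hRmem g).1 hg).1 d⟩
    have h2 := X.two
    obtain ⟨j, rfl⟩ : ∃ j, e = j + 1 := ⟨e - 1, by have := X.ethree; omega⟩
    simp only [Nat.add_sub_cancel] at h0
    nlinarith
  -- the tori
  set 𝒜 := R.image cent with h𝒜
  set 𝒪 := 𝒜.image orb with h𝒪
  have hfib : ∀ g ∈ R, (R.filter fun g' => cent g' = cent g).card = Nat.card (cent g) - 1 := by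
    intro g hg
    haveI := Fintype.ofFinite (cent g)
    rw [Nat.card_eq_fintype_card, ← Finset.card_univ, ← Finset.card_erase_of_mem (Finset.mem_univ (1 : cent g))]
    symm
    refine Finset.card_bij (fun (k : cent g) _ => (k : G)) (fun k hk => ?_)
      (fun k _ l _ hkl => Subtype.ext hkl) fun g' hg' => ?_
    · have := X.cent_same ((hRmem g).1 hg) k.2 fun e' => (Finset.mem_erase.1 hk).1 (Subtype.ext e')
      exact Finset.mem_filter.2 ⟨(hRmem _).2 this.1, this.2⟩
    · rw [Finset.mem_filter, hRmem] at hg'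
      refine ⟨⟨g', hg'.2 ▸ mem_cent.2 rfl⟩, Finset.mem_erase.2 ⟨fun e' => ?_, Finset.mem_univ _⟩, rfl⟩
      exact (X.sq_ne hg'.1.1).1 (congrArg Subtype.val e')
  have hdata : ∀ o ∈ 𝒪, ∃ ra rw' rT : ℕ,
      (∃ g, Real' Ω g ∧ orb (cent g) = o ∧ Nat.card (cent g) = ra) ∧ 3 ≤ ra ∧ ra ∣ h + 1 ∧ ra = rw' * rT + 1 ∧
      (rw' = 2 ∨ rw' = 4) ∧ o.card * (ra * rw') = Fintype.card G ∧
      ∑ g ∈ R.filter (fun g => orb (cent g) = o), Nat.card (cent g) = Fintype.card G * rT ∧
      (R.filter fun g => orb (cent g) = o).card * ra = Fintype.card G * rT := by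
    intro o ho
    obtain ⟨A, hA, rfl⟩ := Finset.mem_image.1 ho
    obtain ⟨g, hg, rfl⟩ := Finset.mem_image.1 hA
    have hg' := (hRmem g).1 hg
    obtain ⟨w, hw, hwc⟩ := X.norm_index hh hg'
    have hodd := X.cent_odd hg'.1
    obtain ⟨T, hT⟩ : ∃ T, Nat.card (cent g) = w * T + 1 := by
      rcases hwc with rfl | ⟨rfl, h4⟩
      · exact hodd
      · obtain ⟨T, hT⟩ := h4
        exact ⟨T, by have := X.three_le_cent hg'.1; omega⟩
    have hcardo : (orb (cent g)).card * (Nat.card (cent g) * w) = Fintype.card G := by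
      rw [← hw, card_orb, Nat.card_eq_fintype_card]
    -- all conjugates are tori of the same size
    have hconst : ∀ g' ∈ R.filter (fun g' => orb (cent g') = orb (cent g)),
        cent g' ∈ orb (cent g) ∧ Nat.card (cent g') = Nat.card (cent g) := by
      intro g' hg''
      rw [Finset.mem_filter] at hg''
      have h1 : cent g' ∈ orb (cent g) := by
        rw [← hg''.2]
        exact Finset.mem_image.2 ⟨1, Finset.mem_univ _, by ext w; simp⟩
      obtain ⟨k, -, hk⟩ := Finset.mem_image.1 h1
      refine ⟨h1, ?_⟩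
      rw [← hk]
      exact (Nat.card_congr (Subgroup.equivMapOfInjective _ _ (MulAut.conj k).injective).toEquiv).symm
    have hcount : (R.filter fun g' => orb (cent g') = orb (cent g)).card =
        (orb (cent g)).card * (Nat.card (cent g) - 1) := by
      rw [Finset.card_eq_sum_card_fiberwise (t := orb (cent g)) (f := cent) fun g' hg'' => (hconst g' hg'').1,
        Finset.sum_congr rfl (g := fun _ => Nat.card (cent g) - 1) fun A hA => ?_, Finset.sum_const, smul_eq_mul]
      obtain ⟨k, -, rfl⟩ := Finset.mem_image.1 hA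
      have hk : k * g * k⁻¹ ∈ R := (hRmem _).2 (real_conj hg' k)
      rw [cent_map, show Nat.card (cent g) = Nat.card (cent (k * g * k⁻¹)) by
        rw [← cent_map]
        exact Nat.card_congr (Subgroup.equivMapOfInjective _ _ (MulAut.conj k).injective).toEquiv,
        ← hfib _ hk, Finset.filter_filter]
      refine congrArg Finset.card (Finset.filter_congr fun g' _ => ⟨fun h1 => h1.2, fun h1 => ⟨?_, h1⟩⟩)
      rw [h1, ← cent_map, orb_map]
    have e1 : (R.filter fun g' => orb (cent g') = orb (cent g)).card * Nat.card (cent g) = Fintype.card G * T := by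
      rw [hcount, ← hcardo, hT, Nat.add_sub_cancel]
      ring
    refine ⟨_, w, T, ⟨g, hg', rfl, rfl⟩, X.three_le_cent hg'.1, X.cent_dvd hg'.1, hT, ?_, hcardo, ?_, e1⟩
    · rcases hwc with h2 | ⟨h4, -⟩
      exacts [Or.inl h2, Or.inr h4]
    · rw [Finset.sum_congr rfl fun g' hg'' => (hconst g' hg'').2, Finset.sum_const, smul_eq_mul, e1]
  choose! fa fw fT hrep hthree hdvd haT hw hcard hpairs helts using hdata
  have hmaps : ∀ g ∈ R, orb (cent g) ∈ 𝒪 := fun g hg =>
    Finset.mem_image_of_mem _ (Finset.mem_image_of_mem _ hg)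
  have hTsum : 2 * ∑ o ∈ 𝒪, fT o = e + 1 := by
    refine Nat.eq_of_mul_eq_mul_left hGpos ?_
    rw [← hsum, ← Finset.sum_fiberwise_of_maps_to hmaps, Finset.sum_congr rfl hpairs, ← Finset.mul_sum]
    ring
  have hEsum : ∑ o ∈ 𝒪, (R.filter fun g => orb (cent g) = o).card = R.card :=
    (Finset.card_eq_sum_card_fiberwise hmaps).symm
  have hTpos : ∀ o ∈ 𝒪, 0 < fT o := fun o ho => by
    rcases Nat.eq_zero_or_pos (fT o) with h0 | h0
    · have h1 := hthree o ho
      rw [haT o ho, h0, mul_zero, zero_add] at h1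
      omega
    · exact h0
  have hfive : ∀ o ∈ 𝒪, Fintype.card G ≤ 5 * (R.filter fun g => orb (cent g) = o).card := fun o ho => by
    have h1 := helts o ho
    have h2 : fa o ≤ 5 * fT o := by
      have e2 := haT o ho
      have := hTpos o ho
      rcases hw o ho with h' | h' <;> rw [h'] at e2 <;> omega
    refine Nat.le_of_mul_le_mul_right (c := fa o) ?_ (by have := hthree o ho; omega)
    rw [mul_assoc, h1]
    calc Fintype.card G * fa o ≤ Fintype.card G * (5 * fT o) := Nat.mul_le_mul_left _ h2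
      _ = _ := by ring
  have hthird : ∀ o ∈ 𝒪, fw o = 2 → Fintype.card G ≤ 3 * (R.filter fun g => orb (cent g) = o).card :=
    fun o ho h2' => by
    have h1 := helts o ho
    have h2 : fa o ≤ 3 * fT o := by
      have e2 := haT o ho
      have := hTpos o ho
      rw [h2'] at e2
      omega
    refine Nat.le_of_mul_le_mul_right (c := fa o) ?_ (by have := hthree o ho; omega)
    rw [mul_assoc, h1]
    calc Fintype.card G * fa o ≤ Fintype.card G * (3 * fT o) := Nat.mul_le_mul_left _ h2
      _ = _ := by ring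
  have hle2 : 𝒪.card ≤ 2 := by
    by_contra h3
    have h1 : 3 * Fintype.card G ≤ 5 * R.card := by
      rw [← hEsum, Finset.mul_sum]
      calc 3 * Fintype.card G ≤ 𝒪.card * Fintype.card G := Nat.mul_le_mul_right _ (by omega)
        _ = ∑ o ∈ 𝒪, Fintype.card G := by rw [Finset.sum_const, smul_eq_mul]
        _ ≤ _ := Finset.sum_le_sum hfive
    omega
  have hq4 : 4 ≤ 2 ^ n := by
    calc 4 = 2 ^ 2 := rfl
      _ ≤ 2 ^ n := Nat.pow_le_pow_right (by norm_num) hn2
  rcases (show 𝒪.card = 0 ∨ 𝒪.card = 1 ∨ 𝒪.card = 2 by omega) with h0 | h1 | h2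
  · rw [Finset.card_eq_zero.1 h0, Finset.sum_empty] at hTsum
    omega
  · exfalso
    obtain ⟨o, ho⟩ := Finset.card_eq_one.1 h1
    have hmem : o ∈ 𝒪 := by rw [ho]; exact Finset.mem_singleton_self o
    rw [ho, Finset.sum_singleton, hn] at hTsum
    have hd := hdvd o hmem
    rw [haT o hmem, hh, hn] at hd
    rcases hw o hmem with h' | h' <;> rw [h'] at hd
    · rw [hTsum] at hd
      obtain ⟨k, hk⟩ := hd
      have hd' : 2 ^ n + 1 ∣ 2 := by
        have h5 : 2 ^ n + 1 ∣ (2 ^ n) ^ 2 + 1 := ⟨k, hk⟩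
        have h6 : 2 ^ n + 1 ∣ (2 ^ n + 1) * (2 ^ n - 1) := dvd_mul_right _ _
        have h7 := Nat.dvd_sub h5 h6
        rwa [show (2 ^ n) ^ 2 + 1 - (2 ^ n + 1) * (2 ^ n - 1) = 2 by
          rw [← Nat.sq_sub_sq, one_pow]
          have : 1 ≤ (2 ^ n) ^ 2 := Nat.one_le_pow _ _ (by omega)
          omega] at h7
      have := Nat.le_of_dvd (by norm_num) hd'
      omega
    · rw [show 4 * fT o = 2 * 2 ^ n by omega] at hd
      have h6 : 2 * 2 ^ n + 1 ∣ (2 * 2 ^ n + 1) * (2 * 2 ^ n - 1) := dvd_mul_right _ _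
      have h7 := Nat.dvd_sub (hd.mul_left 4) h6
      rw [show 4 * ((2 ^ n) ^ 2 + 1) - (2 * 2 ^ n + 1) * (2 * 2 ^ n - 1) = 5 by
        rw [← Nat.sq_sub_sq, one_pow]
        have : 1 ≤ (2 * 2 ^ n) ^ 2 := Nat.one_le_pow _ _ (by omega)
        rw [mul_pow] at this ⊢
        omega] at h7
      have := Nat.le_of_dvd (by norm_num) h7
      omega
  · obtain ⟨o, o', hne, ho⟩ := Finset.card_eq_two.1 h2
    have hmem : o ∈ 𝒪 := by rw [ho]; simp
    have hmem' : o' ∈ 𝒪 := by rw [ho]; simp
    rw [ho, Finset.sum_pair hne, hn] at hTsum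
    rw [ho, Finset.sum_pair hne] at hEsum
    have w4 : ∀ p p', p ∈ 𝒪 → p' ∈ 𝒪 →
        (R.filter fun g => orb (cent g) = p).card + (R.filter fun g => orb (cent g) = p').card = R.card →
        fw p = 4 := by
      intro p p' hp hp' hs
      rcases hw p hp with h' | h'
      · exfalso
        have := hthird p hp h'
        have := hfive p' hp'
        omega
      · exact h'
    have e4 := w4 o o' hmem hmem' hEsum
    have e4' := w4 o' o hmem' hmem (by omega)
    have ha := haT o hmem
    have ha' := haT o' hmem'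
    rw [e4] at ha
    rw [e4'] at ha'
    refine odd_exponent (a := fa o) (b := fa o') (by omega) (by omega) (by omega) ?_
    rw [← hn, ← hh]
    refine Nat.Coprime.mul_dvd_of_dvd_of_dvd ?_ (hdvd o hmem) (hdvd o' hmem')
    by_contra hnc
    obtain ⟨g, hg, hgo, hga⟩ := hrep o hmem
    obtain ⟨g', hg', hgo', hga'⟩ := hrep o' hmem'
    obtain ⟨k, hk⟩ := X.conj_of_not_coprime hg hg' (by rwa [hga, hga'])
    exact hne (by rw [← hgo, ← hgo', ← hk, orb_map])

end SCtx

end Cfsg.Agent.Lie.ZassenhausSuzuki
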