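import Mathlib
import Cfsg.Prelude.Def_Exceptional
import Cfsg.Agent.Lib.Lie.ZassenhausSuzuki.Cubic
import Cfsg.Agent.Lib.Lie.ZassenhausSuzuki.Square
import Cfsg.Agent.Lib.Lie.SuzukiSquare
import Cfsg.Agent.Lib.Lie.Feit.Main
import Cfsg.Agent.Lib.Lie.ZassenhausKernel
import Cfsg.Agent.Lib.Lie.ZassenhausHalf
import Cfsg.Agent.Lib.Lie.ZassenhausOddHalf
import Cfsg.Agent.Lib.Lie.SharpSimple

/-!
The classification of simple Zassenhaus groups.
-/

set_option autoImplicit false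
set_option linter.style.haveILetI false

namespace Cfsg.Agent.Lie.ZassenhausSuzuki

open MulAction
open Cfsg.Agent.Lie.ZassenhausCount

universe u v

variable {G : Type u} {Ω : Type v} [Group G] [Finite G] [MulAction G Ω] [Fintype Ω] [IsSimpleGroup G]

/-- The structure of a simple Zassenhaus group with nonabelian two-group kernel. -/
theorem suzuki_data (hZ : Cfsg.IsZassenhausGroup G Ω) {a b : Ω} (hab : a ≠ b) (U : Subgroup G)
    (hle : U ≤ stabilizer G a) (hcard : Nat.card U + 1 = Fintype.card Ω)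
    (honly : ∀ u ∈ U, u ≠ 1 → ∀ c : Ω, u • c = c → c = a) (hp2 : IsPGroup 2 U) (hna : ∃ u v : U, u * v ≠ v * u) :
    ∃ n : ℕ, Odd n ∧ 1 < n ∧ Nat.card Ω = 2 ^ (2 * n) + 1 ∧ IsCyclic ↥(stabilizer G a ⊓ stabilizer G b) ∧
      Nat.card ↥(stabilizer G a ⊓ stabilizer G b) = 2 ^ n - 1 ∧
      Nat.card G = (2 ^ n) ^ 2 * ((2 ^ n) ^ 2 + 1) * (2 ^ n - 1) ∧
      ∃ (F : Type) (_ : Field F) (_ : Fintype F) (φ : F ≃+* F), Fintype.card F = 2 ^ n ∧
        Nonempty (U ≃* Cfsg.suzukiTypeA F (φ : F →+* F)) := by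
  classical
  haveI := Fintype.ofFinite G
  obtain ⟨hF, h2, h3, hfix, -⟩ := id hZ
  haveI := hF
  set e := Nat.card ↥(stabilizer G a ⊓ stabilizer G b) with he
  set h := Nat.card U with hh
  have hh2 : 2 ≤ h := by
    obtain ⟨u, v, huv⟩ := hna
    haveI : Nontrivial U := ⟨⟨u, 1, fun e' => huv (by rw [e', one_mul, mul_one])⟩⟩
    exact Finite.one_lt_card
  obtain ⟨k, hk⟩ := hp2.exists_card_eq
  have hheven : 2 ∣ h := by
    rw [hh, hk]
    refine dvd_pow_self 2 fun h0 => ?_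
    rw [hh, hk, h0] at hh2
    omega
  have hedvd := Feit.stab_dvd (G := G) (Ω := Ω) h3 hab
  rw [← he, show Fintype.card Ω - 2 = h - 1 by omega] at hedvd
  have hodd : Odd e := by
    have : Odd (h - 1) := by
      obtain ⟨j, hj⟩ := hheven
      exact ⟨j - 1, by omega⟩
    exact this.of_dvd_nat hedvd
  obtain ⟨-, hnorm⟩ := Cfsg.Agent.S0878.result hZ a U hle hcard honly
  have hbig : 2 * e < h - 1 := by
    by_contra hle'
    obtain ⟨hc, -⟩ := ZassenhausKernel.kernel_elementary hZ hab (by omega) U hle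
      (Subgroup.normal_subgroupOf_of_le_normalizer (le_of_eq hnorm.symm))
      fun y z hy hz => Feit.kernel_orbit (Ne.symm hy) hle hcard honly z hz
    obtain ⟨u, v, huv⟩ := hna
    exact huv (hc.is_comm.comm u v)
  obtain ⟨hcyc, -, -⟩ := ZassenhausOdd.cyclic_inverted h2 h3 hfix hab hodd
    (ZassenhausOdd.no_complement h2 hab hodd)
  have X : SCtx G Ω U a b h e :=
    { (oddCtx h2 h3 hfix hab hcard.symm he.symm hodd) with
      hle := hle, hcard := rfl, honly := honly, big := hbig, two_group := hp2, nab := hna, cyc := hcyc }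
  haveI := Fintype.ofFinite ↥(stabilizer G a)
  haveI := Fintype.ofFinite U
  have hsq : h = (e + 1) ^ 2 := X.order_cases.resolve_right fun hc => X.false_of_cube hc
  obtain ⟨n, hnodd, hn1, hn⟩ := X.exponent_odd hsq
  refine ⟨n, hnodd, hn1, ?_, hcyc, by omega, ?_, ?_⟩
  · rw [Nat.card_eq_fintype_card, X.card, hsq, hn, ← pow_mul, mul_comm n 2]
  · rw [Nat.card_eq_fintype_card, card_group X.toOddCtx, hsq, hn, show e = 2 ^ n - 1 by omega]
    ring
  · obtain ⟨F, iF, iFF, φ, hFc, -, -, hiso⟩ := SuzukiSquare.type_a X.suzuki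
      (by rw [X.card_center, ← hh, hsq])
    exact ⟨F, iF, iFF, φ, by rw [hFc, X.card_center, hn], hiso⟩

theorem isSuzuki_of_data {n : ℕ} (hn : Odd n) (hn1 : 1 < n)
    (hc : Nat.card G = (2 ^ n) ^ 2 * ((2 ^ n) ^ 2 + 1) * (2 ^ n - 1)) : Cfsg.IsSuzuki G := by
  obtain ⟨m, rfl⟩ := hn
  exact ⟨inferInstance, m, by omega, hc⟩

/-- Simple Zassenhaus groups are `PSL₂` or of Suzuki order. -/
theorem classification (hZ : Cfsg.IsZassenhausGroup G Ω) :
    (∃ (F : Type) (_ : Field F) (_ : Fintype F), Nonempty (G ≃* Matrix.ProjectiveSpecialLinearGroup (Fin 2) F)) ∨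
      Cfsg.IsSuzuki G := by
  classical
  obtain ⟨hF, h2, h3, hfix, -⟩ := id hZ
  haveI := hF
  obtain ⟨g₀, hg₀, a, b, hab, -, -⟩ := id hfix
  obtain ⟨x, hxa, hxb⟩ := Zassenhaus.three_le_card (G := G) hfix hab
  have hthree : 3 ≤ Fintype.card Ω := by
    have h1 : ({a, b, x} : Finset Ω).card = 3 := Finset.card_eq_three.2 ⟨a, b, x, hab, hxa.symm, hxb.symm, rfl⟩
    have := Finset.card_le_univ ({a, b, x} : Finset Ω)
    omega
  obtain ⟨k, hk⟩ := Feit.stab_dvd (G := G) h3 hab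
  set e := Nat.card ↥(stabilizer G a ⊓ stabilizer G b) with he
  have hkcases : ¬ 2 * e ≤ Fintype.card Ω - 2 → e = Fintype.card Ω - 2 := fun hle => by
    rcases k with _ | _ | k
    · omega
    · omega
    · exfalso
      apply hle
      rw [hk]
      nlinarith
  rcases Nat.even_or_odd e with heven | hodd
  · by_cases hle : 2 * e ≤ Fintype.card Ω - 2
    · obtain ⟨F, iF, iFF, -, -, hiso⟩ := ZassenhausHalf.psl_of_half hZ hab heven hle
      exact Or.inl ⟨F, iF, iFF, hiso⟩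
    · exact absurd (hkcases hle) (fun h => SharpSimple.false_of_sharp hZ hab heven h)
  · obtain ⟨H, -, hle, hcard, honly⟩ := Feit.exists_kernel hZ ⊤ (fun h => hg₀ (by
      have h1 := Subgroup.mem_top g₀
      rw [h, Subgroup.mem_bot] at h1
      exact h1)) hab
    rcases Feit.feit_inequality hZ hab (h := Fintype.card Ω - 1) (by omega) rfl hodd hle hcard honly
      with hsmall | ⟨hp, hna, -⟩
    · left
      by_cases h2e : 2 * e ≤ Fintype.card Ω - 2
      · exact ZassenhausOddHalf.psl_of_half_odd hZ hab hodd (by omega)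
      · exact ZassenhausOddHalf.psl_of_sharp_odd hZ hab hodd (hkcases h2e)
    · obtain ⟨n, hn, hn1, -, -, -, hc, -⟩ := suzuki_data hZ hab H hle hcard honly hp hna
      exact Or.inr (isSuzuki_of_data hn hn1 hc)

omit [Finite G] [IsSimpleGroup G] in
/-- A regular subgroup of the point stabiliser, as a kernel. -/
theorem kernel_of_regular {a : Ω} (hb : ∃ b : Ω, b ≠ a) (U : Subgroup G) (hle : U ≤ stabilizer G a)
    (hreg : ∀ y z : Ω, y ≠ a → z ≠ a → ∃! u : U, (u : G) • y = z) :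
    Nat.card U + 1 = Fintype.card Ω ∧ ∀ u ∈ U, u ≠ 1 → ∀ c : Ω, u • c = c → c = a := by
  classical
  obtain ⟨b, hb⟩ := hb
  refine ⟨?_, fun u hu hu1 c hc => ?_⟩
  · let ι : U → {c : Ω // c ≠ a} := fun u => ⟨(u : G) • b, fun h =>
      hb (MulAction.injective (u : G) (h.trans (hle u.2).symm))⟩
    have hι : Function.Bijective ι := by
      refine ⟨fun u u' h => ?_, fun c => ?_⟩
      · obtain ⟨w, -, hw⟩ := hreg b _ hb (ι u).2
        exact (hw u rfl).trans (hw u' (congrArg Subtype.val h).symm).symm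
      · obtain ⟨w, hw, -⟩ := hreg b c hb c.2
        exact ⟨w, Subtype.ext hw⟩
    rw [Nat.card_eq_of_bijective ι hι, Nat.card_eq_fintype_card, Fintype.card_subtype_compl,
      Fintype.card_subtype_eq]
    have := Fintype.card_pos_iff.2 ⟨a⟩
    omega
  · by_contra hca
    obtain ⟨w, -, hw⟩ := hreg c c hca hca
    exact hu1 (congrArg Subtype.val ((hw ⟨u, hu⟩ hc).trans (hw 1 (one_smul G c)).symm))

end Cfsg.Agent.Lie.ZassenhausSuzuki
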